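import Cfsg.Agent.H412.FC.Geo
import Cfsg.Agent.H412.FC.BBridge
import Cfsg.Agent.H786.FC.Bridge

/-!
# S5764 [B-AUTU]: `ThmB → StmtAutU` (helper412)
-/

set_option autoImplicit false

namespace Cfsg.Agent.H412.FC

open Subgroup Cfsg
open Cfsg.Agent.H903.SylSemi (Semi SemiU scal scal_apply Ind IsSUMap)
open Cfsg.Agent.LieClassical.HermBasic
open Cfsg.Agent.H198.FC (Cl RB cj hm hm_apply FiveB ThmB StmtAutU FiveAut)
open Cfsg.Agent.H200.FC (Ph Ph_apply Ph_apply' eq_Ph Ph_mem Ph_hm Ph_ker hm_mem lin_mem ofU toU ofU_apply ofU_coe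
  toU_ofU toU_coe Ph_lin)

/-- the standard hermitian form as a `Cl` -/
def clU {F : Type} [Field F] [Fintype F] {q : ℕ} (n : ℕ) (hF : Fintype.card F = q ^ 2) : Cl F (Fin n → F) where
  τ := conj hF
  B := hermForm n F q
  add_left := herm_add_left
  add_right := herm_add_right hF
  smul_left := herm_smul_left
  smul_right a v w := herm_smul_right a v w
  nondeg _ h := herm_nondeg hF h
  invol a := pow_q_pow_q hF a
  typ := Or.inl ⟨exists_not_fixed hF, fun v w => herm_swap hF v w⟩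

variable {F : Type} [Field F] [Fintype F] {n q : ℕ}

theorem semiU_iff (hF : Fintype.card F = q ^ 2) (y : Equiv.Perm (Fin n → F)) :
    SemiU F n q y ↔ ∃ σ μ, IsSim (clU n hF) y σ μ := by
  constructor
  · rintro ⟨θ, τ, h0, ⟨h1, h2⟩, h3⟩
    exact ⟨θ, τ, h0, h1, h2, h3⟩
  · rintro ⟨θ, τ, h0, h1, h2, h3⟩
    exact ⟨θ, τ, h0, ⟨h1, h2⟩, h3⟩

/-- linear isometries of determinant 1 -/
def XU (hF : Fintype.card F = q ^ 2) (g : Equiv.Perm (Fin n → F)) : Prop :=
  ∃ x : (Fin n → F) ≃ₗ[F] (Fin n → F), LinearMap.det (x : (Fin n → F) →ₗ[F] (Fin n → F)) = 1 ∧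
    (∀ v w, (clU n hF).B (x v) (x w) = (clU n hF).B v w) ∧ (x.toEquiv : Equiv.Perm (Fin n → F)) = g

theorem famU (hF : Fintype.card F = q ^ 2) : Fam F (SemiU F n q) (XU hF) where
  one := (semiU_iff hF 1).2 ⟨_, _, IsSim.one _⟩
  mul y y' h h' := by
    obtain ⟨σ, μ, h1⟩ := (semiU_iff hF y).1 h
    obtain ⟨σ', μ', h1'⟩ := (semiU_iff hF y').1 h'
    exact (semiU_iff hF _).2 ⟨_, _, h1.mul h1'⟩
  scal a := (semiU_iff hF _).2 ⟨_, _, isSim_hm (clU n hF) a⟩
  semi := by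
    rintro y ⟨θ, τ, h0, h1, h3⟩
    exact ⟨θ, h1⟩
  XY := by
    rintro _ ⟨x, -, hx, rfl⟩
    exact (semiU_iff hF _).2 ⟨_, _, isSim_of_isom x hx⟩
  Xconj := by
    rintro y _ hy ⟨x, hd, hx, rfl⟩
    obtain ⟨σ, μ, h1⟩ := (semiU_iff hF y).1 hy
    obtain ⟨z, z1, z2, z3⟩ := exists_conj_isom h1 x hd hx
    exact ⟨z, z1, z2, z3⟩

theorem XU_su (hF : Fintype.card F = q ^ 2) {g : Equiv.Perm (Fin n → F)} (h : XU hF g) :
    ∃ s, H177.MeetPSU.rho n F q s = g := by
  obtain ⟨x, hd, hx, rfl⟩ := h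
  exact H177.MeetPSU.exists_su ⟨⟨(x : (Fin n → F) →ₗ[F] (Fin n → F)), fun v => rfl, hd⟩, hx⟩

theorem big_clU (hF : Fintype.card F = q ^ 2) (hn : 3 ≤ n) (h32 : ¬ (n = 3 ∧ q = 2)) : (clU n hF).Big := by
  refine Or.inl ⟨⟨exists_not_fixed hF, fun v w => herm_swap hF v w⟩, ?_, fun h3 h4 => h32 ?_⟩
  · rw [Module.finrank_fin_fun]
    exact hn
  · rw [Module.finrank_fin_fun] at h3
    refine ⟨h3, ?_⟩
    rw [Nat.card_eq_fintype_card, hF] at h4
    have : q * q = 2 * 2 := by rw [← sq, h4]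
    exact Nat.mul_self_inj.1 this

theorem geoU (hB : ThmB.{0, 0}) (hF : Fintype.card F = q ^ 2) (hn : 3 ≤ n) (h32 : ¬ (n = 3 ∧ q = 2))
    (G : Subgroup (Equiv.Perm (Fin n → F))) (hG : SolG F (SemiU F n q) G) : Concl F (XU hF) G := by
  classical
  have hnt : Nontrivial (Fin n → F) := by
    have : Nonempty (Fin n) := ⟨⟨0, by omega⟩⟩
    infer_instance
  have hle : G ≤ H198.FC.Semi F (Fin n → F) := by
    intro y hy
    obtain ⟨σ, μ, h⟩ := (semiU_iff hF y).1 (hG.mem y hy)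
    exact semi_of_isSim h
  let SR : Subgroup (Equiv.Perm (H198.FC.R F (Fin n → F))) :=
    (G.comap (H198.FC.Semi F (Fin n → F)).subtype).map (Ph F (Fin n → F))
  have h1 : SR ≤ RB (clU n hF) := by
    rintro _ ⟨g, hg, rfl⟩
    obtain ⟨σ, μ, h⟩ := (semiU_iff hF _).1 (hG.mem _ hg)
    exact Ph_mem_RB h g.2
  have h2 : Group.IsSolvable SR := by
    have h1 : Group.IsSolvable (G.comap (H198.FC.Semi F (Fin n → F)).subtype) := by
      have := hG.sol
      apply Group.isSolvable_of_isSolvable_injective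
        (f := (H198.FC.Semi F (Fin n → F)).subtype.subgroupComap G)
      intro a b hab
      apply Subtype.ext
      apply Subtype.ext
      have h2 : ((H198.FC.Semi F (Fin n → F)).subtype.subgroupComap G a).1 =
        ((H198.FC.Semi F (Fin n → F)).subtype.subgroupComap G b).1 := by rw [hab]
      exact h2
    exact Group.isSolvable_of_surjective
      ((Ph F (Fin n → F)).subgroupMap_surjective (G.comap (H198.FC.Semi F (Fin n → F)).subtype))
  obtain ⟨x, hd, hx, hS⟩ := hB F (Fin n → F) (clU n hF) (big_clU hF hn h32) SR h1 h2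
  refine ⟨fun i => ((ofU (x i)).symm.toEquiv : Equiv.Perm (Fin n → F)), fun i => ?_, fun y hy hi => ?_⟩
  · refine ⟨(ofU (x i)).symm, ?_, fun v w => ?_, rfl⟩
    · have h3 : LinearMap.det ((ofU (x i) : (Fin n → F) ≃ₗ[F] (Fin n → F)) : (Fin n → F) →ₗ[F] (Fin n → F)) = 1 := by
        rw [ofU_coe]; exact hd i
      have h4 := LinearEquiv.det_symm_mul_det (ofU (x i))
      rwa [h3, mul_one] at h4
    · have h5 := hx i ((ofU (x i)).symm v) ((ofU (x i)).symm w)
      have e1 : (x i : H198.FC.R F (Fin n → F)) ((ofU (x i)).symm v) = v := (ofU (x i)).apply_symm_apply v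
      have e2 : (x i : H198.FC.R F (Fin n → F)) ((ofU (x i)).symm w) = w := (ofU (x i)).apply_symm_apply w
      rw [e1, e2] at h5
      exact h5.symm
  · have hy' := hle hy
    have h6 : Ph F (Fin n → F) ⟨y, hy'⟩ = 1 := by
      apply hS
      · exact ⟨⟨y, hy'⟩, hy, rfl⟩
      · intro i
        rw [← Ph_lin, ← map_inv, ← map_mul, ← map_mul]
        refine ⟨_, ?_, rfl⟩
        exact hi i
    obtain ⟨a, ha⟩ := Ph_ker ⟨y, hy'⟩ h6
    refine ⟨a, ?_⟩
    have ha' : y = hm F (Fin n → F) a := ha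
    rw [ha']
    ext v
    rfl

/-- **[B-AUTU]** -/
theorem stmtAutU (hB : ThmB.{0, 0}) : StmtAutU := by
  intro F _ _ n q hF hn h32
  apply H786.FC.fiveAut_of_allFive
  intro S hS
  refine five_of_geo (π := ClassicalGeometry.UnitAutBasic.pr n F q) ClassicalGeometry.UnitAutBasic.pr_surjective
    (ρ := H177.MeetPSU.rho n F q) H177.MeetPSU.rho_injective (famU hF) H177.MeetPSU.semi_rho
    (fun y => H177.MeetPSU.uniq hF hn) (fun g => XU_su hF) (geoU hB hF hn h32) hS ?_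
  intro β _
  obtain ⟨A, θ, rfl⟩ := ClassicalGeometry.PSUAutMain.exists_toAut hF hn h32 β
  exact ⟨H177.MeetPSU.yy A θ, H177.MeetPSU.semiU_yy A θ, H177.MeetPSU.ind_yy A θ⟩

end Cfsg.Agent.H412.FC
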