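import Cfsg.Agent.H786.FC.Main
import Cfsg.Agent.H177.MeetPSU
import Cfsg.Agent.H513.MeetPSp

/-!
# S5764: from semilinear groups to `AllFive` (helper412)

`SolG F Y Γ` : `Γ` is a maximal solvable group of permutations of `V` satisfying `Y`, containing the scalars.
`Concl F X Γ` : four elements satisfying `X` conjugate `Γ` such that the five conjugates meet in scalars.
`concl_of_fit` : one element `g` with `F(Γ/Z) ∩ (Γ/Z)^g = 1` is enough.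
-/

set_option autoImplicit false

namespace Cfsg.Agent.H412.FC

open Subgroup Cfsg Cfsg.Agent.H786.FC Cfsg.Agent.H903.SylSemi

section defs

variable (F : Type*) [Field F] {V : Type*} [AddCommGroup V] [Module F V]

/-- the conclusion for a group `Γ` of semilinear maps -/
def Concl (X : Equiv.Perm V → Prop) (Γ : Subgroup (Equiv.Perm V)) : Prop :=
  ∃ x : Fin 4 → Equiv.Perm V, (∀ i, X (x i)) ∧
    ∀ y ∈ Γ, (∀ i, (x i)⁻¹ * y * x i ∈ Γ) → ∃ b : Fˣ, y = scal F V b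

/-- the hypotheses on the solvable group -/
structure SolG (Y : Equiv.Perm V → Prop) (Γ : Subgroup (Equiv.Perm V)) : Prop where
  sol : Group.IsSolvable Γ
  mem : ∀ y ∈ Γ, Y y
  scal : ∀ a : Fˣ, scal F V a ∈ Γ
  max : ∀ Δ : Subgroup (Equiv.Perm V), Γ ≤ Δ → Group.IsSolvable Δ → (∀ y ∈ Δ, Y y) → Δ = Γ

/-- the properties of the semilinear maps `Y` and of the conjugators `X` -/
structure Fam (Y X : Equiv.Perm V → Prop) : Prop where
  one : Y 1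
  mul : ∀ y y', Y y → Y y' → Y (y * y')
  scal : ∀ a : Fˣ, Y (scal F V a)
  semi : ∀ y, Y y → ∃ θ, Semi F y θ
  XY : ∀ g, X g → Y g
  Xconj : ∀ y g, Y y → X g → X (y * g * y⁻¹)

/-- the scalars in `Γ` -/
def ZG (Γ : Subgroup (Equiv.Perm V)) : Subgroup Γ := (Cfsg.Agent.H903.SylSemi.scal F V).range.subgroupOf Γ

end defs

variable {F : Type*} [Field F] {V : Type*} [AddCommGroup V] [Module F V] {Y X : Equiv.Perm V → Prop}
  {Γ : Subgroup (Equiv.Perm V)}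

theorem mem_ZG {y : Γ} : y ∈ ZG F Γ ↔ ∃ a : Fˣ, (y : Equiv.Perm V) = scal F V a := by
  rw [ZG, mem_subgroupOf, MonoidHom.mem_range]
  exact ⟨fun ⟨a, h⟩ => ⟨a, h.symm⟩, fun ⟨a, h⟩ => ⟨a, h.symm⟩⟩

theorem semi_scal_conj {y : Equiv.Perm V} {θ : F ≃+* F} (h : Semi F y θ) (a : Fˣ) :
    y * scal F V a * y⁻¹ = scal F V (Units.map (θ : F →* F) a) := by
  rw [mul_inv_eq_iff_eq_mul]
  ext v
  simp only [Equiv.Perm.mul_apply, scal_apply]
  exact h.2 _ _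

theorem ZG_normal (h : ∀ y ∈ Γ, ∃ θ, Semi F y θ) : (ZG F Γ).Normal := by
  constructor
  intro n hn g
  obtain ⟨a, ha⟩ := mem_ZG.1 hn
  obtain ⟨θ, hθ⟩ := h g g.2
  refine mem_ZG.2 ⟨Units.map (θ : F →* F) a, ?_⟩
  rw [← semi_scal_conj hθ, ← ha]
  rfl

theorem SolG.normal (hfam : Fam F Y X) (h : SolG F Y Γ) : (ZG F Γ).Normal :=
  ZG_normal fun y hy => hfam.semi y (h.mem y hy)

theorem Fam.inv [Finite V] (hfam : Fam F Y X) {y : Equiv.Perm V} (hy : Y y) : Y y⁻¹ := by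
  have hpow : ∀ n : ℕ, Y (y ^ n) := by
    intro n
    induction n with
    | zero => simpa using hfam.one
    | succ n ih => rw [pow_succ]; exact hfam.mul _ _ ih hy
  have e1 : y ^ (orderOf y - 1) = y⁻¹ := by
    rw [eq_inv_iff_mul_eq_one, ← pow_succ, Nat.sub_add_cancel (orderOf_pos y),
      pow_orderOf_eq_one]
  rw [← e1]; exact hpow _

/-- **The geometric criterion.** -/
theorem concl_of_fit [Finite V] (hfam : Fam F Y X) (hsol : Group.IsSolvable Γ) (hmem : ∀ y ∈ Γ, Y y)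
    [hn : (ZG F Γ).Normal] {g : Equiv.Perm V} (hg : X g)
    (h : ∀ y : Γ, (QuotientGroup.mk y : Γ ⧸ ZG F Γ) ∈ fittingSubgroup (Γ ⧸ ZG F Γ) →
      g⁻¹ * (y : Equiv.Perm V) * g ∈ Γ → ∃ b : Fˣ, (y : Equiv.Perm V) = scal F V b) : Concl F X Γ := by
  have hs : Group.IsSolvable (Γ ⧸ ZG F Γ) :=
    Group.isSolvable_of_surjective (QuotientGroup.mk'_surjective (ZG F Γ))
  obtain ⟨v₁, h1, v₂, h2, v₃, h3, hb⟩ := fit_base (S := Γ ⧸ ZG F Γ)
  obtain ⟨y₁, rfl⟩ := QuotientGroup.mk_surjective v₁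
  obtain ⟨y₂, rfl⟩ := QuotientGroup.mk_surjective v₂
  obtain ⟨y₃, rfl⟩ := QuotientGroup.mk_surjective v₃
  have hFn : (fittingSubgroup (Γ ⧸ ZG F Γ)).Normal := Lib.Cores.fittingSubgroup_normal
  have key : ∀ v : Γ, (QuotientGroup.mk v : Γ ⧸ ZG F Γ) ∈ fittingSubgroup (Γ ⧸ ZG F Γ) →
      ∀ k : Γ, g⁻¹ * (k : Equiv.Perm V) * g ∈ Γ →
      ((v : Equiv.Perm V) * g * (v : Equiv.Perm V)⁻¹)⁻¹ * k * (v * g * (v : Equiv.Perm V)⁻¹) ∈ Γ →
      (QuotientGroup.mk k : Γ ⧸ ZG F Γ) * QuotientGroup.mk v = QuotientGroup.mk v * QuotientGroup.mk k := by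
    intro v hv k hk hkv
    have h6 : g⁻¹ * ((v : Equiv.Perm V)⁻¹ * k * v) * g ∈ Γ := by
      have := mul_mem (mul_mem (inv_mem v.2) hkv) v.2
      have e : (v : Equiv.Perm V)⁻¹ * (((v : Equiv.Perm V) * g * (v : Equiv.Perm V)⁻¹)⁻¹ * k *
          (v * g * (v : Equiv.Perm V)⁻¹)) * v = g⁻¹ * ((v : Equiv.Perm V)⁻¹ * k * v) * g := by group
      rwa [e] at this
    have h7 : (QuotientGroup.mk (k⁻¹ * v⁻¹ * k * v) : Γ ⧸ ZG F Γ) ∈ fittingSubgroup (Γ ⧸ ZG F Γ) := by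
      have h70 := hFn.conj_mem _ (inv_mem hv) (QuotientGroup.mk k)⁻¹
      rw [inv_inv] at h70
      exact mul_mem h70 hv
    have h8 : g⁻¹ * ((k⁻¹ * v⁻¹ * k * v : Γ) : Equiv.Perm V) * g ∈ Γ := by
      have := mul_mem (inv_mem hk) h6
      have e : (g⁻¹ * (k : Equiv.Perm V) * g)⁻¹ * (g⁻¹ * ((v : Equiv.Perm V)⁻¹ * k * v) * g) =
          g⁻¹ * ((k⁻¹ * v⁻¹ * k * v : Γ) : Equiv.Perm V) * g := by
        simp only [Subgroup.coe_mul, Subgroup.coe_inv]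
        group
      rwa [e] at this
    have h9 : (QuotientGroup.mk (k⁻¹ * v⁻¹ * k * v) : Γ ⧸ ZG F Γ) = 1 :=
      (QuotientGroup.eq_one_iff _).2 (mem_ZG.2 (h _ h7 h8))
    have h10 : (QuotientGroup.mk v : Γ ⧸ ZG F Γ) * QuotientGroup.mk k *
        QuotientGroup.mk (k⁻¹ * v⁻¹ * k * v) = QuotientGroup.mk k * QuotientGroup.mk v := by
      rw [← QuotientGroup.mk_mul, ← QuotientGroup.mk_mul, ← QuotientGroup.mk_mul]
      congr 1
      group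
    rw [h9, mul_one] at h10
    exact h10.symm
  refine ⟨![g, y₁ * g * (y₁ : Equiv.Perm V)⁻¹, y₂ * g * (y₂ : Equiv.Perm V)⁻¹, y₃ * g * (y₃ : Equiv.Perm V)⁻¹],
    fun i => ?_, fun k hk hki => ?_⟩
  · fin_cases i
    exacts [hg, hfam.Xconj _ _ (hmem _ y₁.2) hg, hfam.Xconj _ _ (hmem _ y₂.2) hg, hfam.Xconj _ _ (hmem _ y₃.2) hg]
  · have a0 : g⁻¹ * k * g ∈ Γ := hki 0
    have a1 := key y₁ h1 ⟨k, hk⟩ a0 (hki 1)
    have a2 := key y₂ h2 ⟨k, hk⟩ a0 (hki 2)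
    have a3 := key y₃ h3 ⟨k, hk⟩ a0 (hki 3)
    exact h ⟨k, hk⟩ (hb _ a1 a2 a3) a0

/-- **Translation.** -/
theorem five_of_geo {T : Type*} [Group T] [Finite T] {X₀ : Type*} [Group X₀] [Finite V] {π : X₀ →* T}
    (hπ : Function.Surjective π) {ρ : X₀ →* Equiv.Perm V} (hρ : Function.Injective ρ)
    (hfam : Fam F Y X) (hρlin : ∀ s : X₀, Semi F (ρ s) (RingEquiv.refl F))
    (huniq : ∀ y, Y y → Ind π ρ y 1 → ∃ a : Fˣ, y = scal F V a)
    (hX : ∀ g, X g → ∃ s : X₀, ρ s = g)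
    (hgeo : ∀ Γ, SolG F Y Γ → Concl F X Γ)
    {S : Subgroup (MulAut T)} (hS : Group.IsSolvable S) (hind : ∀ β ∈ S, ∃ y, Y y ∧ Ind π ρ y β) :
    Five (InnG T) S := by
  classical
  have hscal : ∀ a : Fˣ, Ind π ρ (scal F V a) 1 := by
    intro a s
    refine ⟨s, ?_, rfl⟩
    rw [eq_mul_inv_iff_mul_eq]
    ext v
    simp only [Equiv.Perm.mul_apply, scal_apply]
    exact (hρlin s).2 _ _
  let Γ₀ : Subgroup (Equiv.Perm V) :=
    { carrier := {y | Y y ∧ ∃ β ∈ S, Ind π ρ y β}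
      mul_mem' := by
        rintro y y' ⟨h1, β, h2, h3⟩ ⟨h1', β', h2', h3'⟩
        exact ⟨hfam.mul _ _ h1 h1', β * β', S.mul_mem h2 h2', h3.mul h3'⟩
      one_mem' := ⟨hfam.one, 1, S.one_mem, Ind.one π ρ⟩
      inv_mem' := by
        rintro y ⟨h1, β, h2, h3⟩
        exact ⟨hfam.inv h1, β⁻¹, S.inv_mem h2, h3.inv⟩ }
  have hmem : ∀ y, y ∈ Γ₀ ↔ Y y ∧ ∃ β ∈ S, Ind π ρ y β := fun y => Iff.rfl
  have hch : ∀ y : Γ₀, ∃ β : S, Ind π ρ (y : Equiv.Perm V) (β : MulAut T) := by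
    rintro ⟨y, h1, β, h2, h3⟩
    exact ⟨⟨β, h2⟩, h3⟩
  choose f hf using hch
  let φ : Γ₀ →* S :=
    { toFun := f
      map_one' := Subtype.ext (Ind.unique hπ hρ (hf 1) (Ind.one π ρ))
      map_mul' := fun a b => Subtype.ext (Ind.unique hπ hρ (hf (a * b)) ((hf a).mul (hf b))) }
  have hker : Group.IsSolvable φ.ker := by
    have h1 : ∀ y : φ.ker, ∃ a : Fˣ, ((y : Γ₀) : Equiv.Perm V) = scal F V a := by
      intro y
      have hy : f (y : Γ₀) = 1 := y.2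
      refine huniq _ (((hmem _).1 (y : Γ₀).2).1) ?_
      have := hf (y : Γ₀)
      rwa [hy] at this
    refine Group.isSolvable_of_comm fun a b => ?_
    obtain ⟨c, hc⟩ := h1 a
    obtain ⟨d, hd⟩ := h1 b
    apply Subtype.ext
    apply Subtype.ext
    show ((a : Γ₀) : Equiv.Perm V) * ((b : Γ₀) : Equiv.Perm V) = ((b : Γ₀) : Equiv.Perm V) * ((a : Γ₀) : Equiv.Perm V)
    rw [hc, hd, ← map_mul, ← map_mul, mul_comm]
  have hΓ₀ : Group.IsSolvable Γ₀ := by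
    have hq : Group.IsSolvable (Γ₀ ⧸ φ.ker) :=
      Group.isSolvable_of_isSolvable_injective (f := QuotientGroup.kerLift φ) (QuotientGroup.kerLift_injective φ)
    exact (Group.isSolvable_iff_subgroup_quotient φ.ker).2 ⟨hker, hq⟩
  obtain ⟨Γ, hle, hΓ⟩ := (Set.toFinite {N : Subgroup (Equiv.Perm V) | Group.IsSolvable N ∧
      ∀ y ∈ N, Y y}).exists_le_maximal
    (show Γ₀ ∈ {N : Subgroup (Equiv.Perm V) | Group.IsSolvable N ∧ ∀ y ∈ N, Y y} from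
      ⟨hΓ₀, fun y hy => hy.1⟩)
  have hsolG : SolG F Y Γ :=
    { sol := hΓ.prop.1
      mem := hΓ.prop.2
      scal := fun a => hle ⟨hfam.scal a, 1, S.one_mem, hscal a⟩
      max := fun Δ h1 h2 h3 => le_antisymm (hΓ.le_of_ge ⟨h2, h3⟩ h1) h1 }
  obtain ⟨x, hx, hxΓ⟩ := hgeo Γ hsolG
  choose s hs using fun i => hX _ (hx i)
  refine ⟨fun i => MulAut.conj (π (s i)), fun i => ⟨_, rfl⟩, fun β hβ hi => ?_⟩
  obtain ⟨y, hy, hyβ⟩ := hind β hβ
  have hInd : ∀ i, Ind π ρ (x i) (MulAut.conj (π (s i))) := fun i => by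
    rw [← hs i]
    exact Ind.conj π ρ (s i)
  obtain ⟨b, hb⟩ := hxΓ y (hle ⟨hy, β, hβ, hyβ⟩) fun i => hle
    ⟨hfam.mul _ _ (hfam.mul _ _ (hfam.inv (hfam.XY _ (hx i))) hy) (hfam.XY _ (hx i)), _, hi i,
      ((hInd i).inv.mul hyβ).mul (hInd i)⟩
  rw [hb] at hyβ
  exact Ind.unique hπ hρ hyβ (hscal b)

end Cfsg.Agent.H412.FC
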