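import Cfsg.Agent.H563.FC.Spe
import Cfsg.Agent.H961.FC.ClDet
import Cfsg.Agent.H786.FC.Parts
import Cfsg.Agent.H716.FC.Sc

/-!
# S5764: extraspecial type normalizers, unitary, `n = 4` (helper412, mathematics helper198)

A frame: lifts `Z1, Z2, X1, X2` of elements of `A` with squares `1` which commute or anticommute, and either all of them
isometries, or `Z1, X1` isometries, `Z2, X2` anti-isometries and `-1` a square in the fixed field.  In the basis
`e 0, e 1 = X1 (e 0), e 2 = X2 (e 0), e 3 = X1 X2 (e 0)` of common eigenvectors of `Z1, Z2` the transvection `x` with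
centre `e 1 + e 2 + α e 3` (resp. `e 0 + e 2 + t e 1`) satisfies `C_S(A) ∩ S ^ x = 1`.
-/

set_option autoImplicit false

namespace Cfsg.Agent.H412.FC.UFour

open Cfsg.Agent.H198.FC Cfsg.Agent.H277.FC Cfsg.Agent.H563.FC

universe u v

/-! ### the field -/

section field

variable {K : Type u} [Field K] [Finite K] {τ : K ≃+* K}

/-- a generator -/
theorem exists_gn (K : Type u) [Field K] [Finite K] : ∃ t : Kˣ, ∀ x : Kˣ, x ∈ Subgroup.zpowers t :=
  IsCyclic.exists_generator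

theorem exists_kappa (hinv : ∀ a, τ (τ a) = a) (hne : ∃ a, τ a ≠ a) (h2 : (2 : K) ≠ 0) :
    ∃ κ : K, κ ≠ 0 ∧ τ κ = -κ ∧ (∀ a, τ a = a → ∃ c, a = c * c) ∧ ∀ σ : K ≃+* K, σ κ = κ → ∀ a, σ a = a := by
  obtain ⟨t, ht⟩ := exists_gn K
  have hgen : ∀ x : K, x ≠ 0 → ∃ k : ℤ, x = (t : K) ^ k := by
    intro x hx
    obtain ⟨k, hk⟩ := ht (Units.mk0 x hx)
    refine ⟨k, ?_⟩
    have := congrArg (fun y : Kˣ => (y : K)) hk
    simpa using this.symm
  have ht0 : (t : K) ≠ 0 := t.ne_zero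
  obtain ⟨m, hm⟩ := hgen (τ t) (by simp)
  obtain ⟨i, hi⟩ := hgen (-1) (neg_ne_zero.2 one_ne_zero)
  have h11 : (-1 : K) ≠ 1 := by
    intro h
    apply h2
    linear_combination -h
  -- `m` is odd
  have hm2 : (t : K) ^ (m * m - 1) = 1 := by
    have h3 := hinv t
    rw [hm, map_zpow₀, hm, ← zpow_mul] at h3
    rw [zpow_sub_one₀ ht0, h3, mul_inv_cancel₀ ht0]
  have hodd : ∀ k : ℤ, (t : K) ^ k = 1 → Even k := by
    intro k hk
    by_contra hko
    rw [Int.not_even_iff_odd] at hko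
    have h3 : ((-1 : K)) ^ k = 1 := by rw [hi, ← zpow_mul, mul_comm, zpow_mul, hk, one_zpow]
    rw [hko.neg_one_zpow] at h3
    exact h11 h3
  have hmo : Even (1 + m) := by
    have h3 := hodd _ hm2
    rcases Int.even_or_odd m with h4 | h4
    · exfalso
      have h5 : Odd (m * m - 1) := by
        obtain ⟨k, hk⟩ := h4
        exact ⟨2 * k * k - 1, by rw [hk]; ring⟩
      exact (Int.not_even_iff_odd.2 h5) h3
    · obtain ⟨k, hk⟩ := h4
      exact ⟨k + 1, by rw [hk]; ring⟩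
  obtain ⟨l, hl⟩ := hmo
  obtain ⟨κ, hκ⟩ : ∃ κ, κ = (t : K) ^ l := ⟨_, rfl⟩
  have hκ0 : κ ≠ 0 := by rw [hκ]; exact zpow_ne_zero _ ht0
  have hν : κ * κ = t * τ t := by
    rw [hκ, ← zpow_add₀ ht0, ← hl, hm, zpow_add₀ ht0, zpow_one]
  have hτν : τ (κ * κ) = κ * κ := by rw [hν, map_mul, hinv, mul_comm]
  -- `κ ^ 2` generates the fixed field
  have hK0 : ∀ a : K, τ a = a → a ≠ 0 → ∃ k : ℤ, a = (κ * κ) ^ k := by
    intro a ha ha0
    obtain ⟨x, hx⟩ := Cfsg.Agent.TitsThree.PQClass.norm_surj τ hinv hne ha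
    have hx0 : x ≠ 0 := by
      rintro rfl
      rw [zero_mul] at hx
      exact ha0 hx.symm
    obtain ⟨k, hk⟩ := hgen x hx0
    refine ⟨k, ?_⟩
    rw [← hx, hk, map_zpow₀, hν, mul_zpow]
  have hκτ : τ κ ≠ κ := by
    intro h3
    obtain ⟨k, hk⟩ := hK0 κ h3 hκ0
    have h4 : κ ^ (2 * k - 1) = 1 := by
      rw [zpow_sub_one₀ hκ0, two_mul, zpow_add₀ hκ0, ← mul_zpow, ← hk, mul_inv_cancel₀ hκ0]
    obtain ⟨k', hk'⟩ := hK0 (-1) (by rw [map_neg, map_one]) (neg_ne_zero.2 one_ne_zero)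
    have h5 : ((-1 : K)) ^ (2 * k - 1) = 1 := by
      rw [hk', mul_zpow, mul_zpow, ← zpow_mul, mul_comm k', zpow_mul, h4, one_zpow, one_mul]
    have h6 : Odd (2 * k - 1) := ⟨k - 1, by ring⟩
    rw [h6.neg_one_zpow] at h5
    exact h11 h5
  refine ⟨κ, hκ0, ?_, ?_, ?_⟩
  · rw [map_mul] at hτν
    rcases mul_self_eq_mul_self_iff.1 hτν with h3 | h3
    · exact absurd h3 hκτ
    · exact h3
  · intro a ha
    by_cases ha0 : a = 0
    · exact ⟨0, by rw [ha0, zero_mul]⟩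
    obtain ⟨k, hk⟩ := hK0 a ha ha0
    exact ⟨κ ^ k, by rw [hk, mul_zpow]⟩
  · intro σ hσ
    have h3 : ∀ a ∈ K0 τ, σ a = a := by
      intro a ha
      by_cases ha0 : a = 0
      · rw [ha0, map_zero]
      obtain ⟨k, hk⟩ := hK0 a ha ha0
      rw [hk, map_zpow₀, map_mul, hσ]
    rcases eq_one_or_tau hinv hκτ h3 with h4 | h4
    · exact h4
    · exact absurd ((h4 κ).symm.trans hσ) hκτ

theorem exists_t (hne : ∃ a, τ a ≠ a) (h2 : (2 : K) ≠ 0) {i : K} (hi : i * i = -1) (hτi : τ i = i) :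
    ∃ t : K, t ≠ 0 ∧ t ^ 4 ≠ 1 ∧ ∀ σ : K ≃+* K, (σ t = t ∨ σ t = -t) → ∀ a, σ a = a := by
  obtain ⟨t, ht⟩ := exists_gn K
  refine ⟨t, t.ne_zero, ?_, ?_⟩
  · intro h4
    obtain ⟨a, ha⟩ := hne
    have ha0 : a ≠ 0 := by
      rintro rfl
      exact ha (map_zero τ)
    obtain ⟨k, hk⟩ := ht (Units.mk0 a ha0)
    have hk' : a = (t : K) ^ k := by
      have := congrArg (fun y : Kˣ => (y : K)) hk
      simpa using this.symm
    have ha4 : a ^ 4 = 1 := by
      rw [hk', ← zpow_natCast, ← zpow_mul, mul_comm, zpow_mul, zpow_natCast, h4, one_zpow]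
    have h5 : (a - 1) * (a + 1) * (a - i) * (a + i) = 0 := by
      linear_combination ha4 - (a ^ 2 - 1) * hi
    apply ha
    rcases mul_eq_zero.1 h5 with h6 | h6
    · rcases mul_eq_zero.1 h6 with h7 | h7
      · rcases mul_eq_zero.1 h7 with h8 | h8
        · rw [sub_eq_zero.1 h8, map_one]
        · rw [eq_neg_of_add_eq_zero_left h8, map_neg, map_one]
      · rw [sub_eq_zero.1 h7, hτi]
    · rw [eq_neg_of_add_eq_zero_left h6, map_neg, hτi]
  · intro σ hσ
    rcases hσ with h3 | h3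
    · exact fun a => Cfsg.Agent.H716.FC.sig_id ht (σ : K →+* K) h3 a
    · exact absurd h3 (Cfsg.Agent.H716.FC.sig_neg ht h2 (σ : K →+* K))

/-- a square root of an element of norm one -/
theorem exists_sqrt (hinv : ∀ a, τ (τ a) = a) (hne : ∃ a, τ a ≠ a) (h2 : (2 : K) ≠ 0) {c : K} (hc : c * τ c = 1) :
    ∃ d, d ≠ 0 ∧ c = d * d := by
  obtain ⟨κ, hκ0, hκ, hsq, -⟩ := exists_kappa hinv hne h2
  have hc0 : c ≠ 0 := left_ne_zero_of_mul_eq_one hc
  obtain ⟨e, he0, he⟩ : ∃ e, e ≠ 0 ∧ c * τ e = e := by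
    by_cases h1 : c = -1
    · exact ⟨κ, hκ0, by rw [h1, hκ]; ring⟩
    · refine ⟨1 + c, fun h3 => h1 ?_, ?_⟩
      · linear_combination h3
      · rw [map_add, map_one, mul_add, hc]; ring
  obtain ⟨n, hn⟩ := hsq (e * τ e) (by rw [map_mul, hinv, mul_comm])
  have hτe : τ e ≠ 0 := by simpa using he0
  have hn0 : n ≠ 0 := by
    rintro rfl
    rw [mul_zero] at hn
    exact mul_ne_zero he0 hτe hn
  refine ⟨e / n, div_ne_zero he0 hn0, ?_⟩
  have h3 : c * (n * n) = e * e := by rw [← hn]; linear_combination e * he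
  field_simp
  linear_combination h3

end field

/-! ### lifts -/

section lifts

variable {K : Type u} [Field K] {V : Type v} [AddCommGroup V] [Module K V] {b : Cl K V}
  {S A : Subgroup (Equiv.Perm (R K V))}

/-- an involution multiplying the form by `m = ± 1` -/
def Iv (b : Cl K V) (x : (R K V)ˣ) (m : K) : Prop :=
  (x : R K V) * x = 1 ∧ (m = 1 ∨ m = -1) ∧ ∀ v w, b.B ((x : R K V) v) ((x : R K V) w) = m * b.B v w

theorem Iv.app {x : (R K V)ˣ} {m : K} (h : Iv b x m) (v : V) : (x : R K V) ((x : R K V) v) = v := by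
  rw [← Module.End.mul_apply, h.1, Module.End.one_apply]

theorem Iv.sgn {x : (R K V)ˣ} {m : K} (h : Iv b x m) : m * m = 1 := by
  rcases h.2.1 with rfl | rfl <;> ring

theorem pm_mul {m m' : K} (h : m = 1 ∨ m = -1) (h' : m' = 1 ∨ m' = -1) : m * m' = 1 ∨ m * m' = -1 := by
  rcases h with rfl | rfl <;> rcases h' with rfl | rfl
  · left; ring
  · right; ring
  · right; ring
  · left; ring

theorem Iv.mul {x y : (R K V)ˣ} {m m' : K} (h : Iv b x m) (h' : Iv b y m') (hc : (x : R K V) * y = y * x) :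
    Iv b (x * y) (m * m') := by
  refine ⟨?_, pm_mul h.2.1 h'.2.1, fun v w => ?_⟩
  · rw [Units.val_mul]
    calc (x : R K V) * y * (x * y) = x * (y * x) * y := by simp only [mul_assoc]
      _ = x * (x * y) * y := by rw [← hc]
      _ = (x * x) * (y * y) := by simp only [mul_assoc]
      _ = 1 := by rw [h.1, h'.1, one_mul]
  · rw [Units.val_mul, Module.End.mul_apply, Module.End.mul_apply, h.2.2, h'.2.2, mul_assoc]

theorem Iv.mul_anti {x y : (R K V)ˣ} {m m' : K} (h : Iv b x m) (h' : Iv b y m') (hc : (x : R K V) * y = -(y * x))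
    {i : K} (hi0 : i ≠ 0) (hi : i * i = -1) {n : K} (hn : i * b.τ i = n) (hn' : n = 1 ∨ n = -1) :
    Iv b (scU i hi0 * (x * y)) (n * (m * m')) := by
  have hv : ((scU i hi0 * (x * y) : (R K V)ˣ) : R K V) = i • ((x : R K V) * y) := by
    rw [Units.val_mul, Units.val_mul]
    show (i • (1 : R K V)) * _ = _
    rw [smul_mul_assoc, one_mul]
  refine ⟨?_, pm_mul hn' (pm_mul h.2.1 h'.2.1), fun v w => ?_⟩
  · rw [hv, smul_mul_smul_comm, hi]
    have h1 : (x : R K V) * y * (x * y) = -1 := by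
      calc (x : R K V) * y * (x * y) = x * (y * x) * y := by simp only [mul_assoc]
        _ = x * (-(x * y)) * y := by rw [hc, neg_neg]
        _ = -((x * x) * (y * y)) := by simp only [mul_neg, neg_mul, mul_assoc]
        _ = -1 := by rw [h.1, h'.1, one_mul]
    rw [h1, neg_smul, one_smul, neg_neg]
  · rw [hv, LinearMap.smul_apply, LinearMap.smul_apply, b.smul_left, b.smul_right, Module.End.mul_apply,
      Module.End.mul_apply, h.2.2, h'.2.2, ← hn]
    ring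

variable [Finite K] [Module.Finite K V] {a : ℕ}

/-- **normalised lifts** -/
theorem exists_lift (hU : b.IsU) (h2 : (2 : K) ≠ 0) (h : C6Data S A 2 a) (hSb : S ≤ RB b) {y : (R K V)ˣ}
    (hy : y ∈ Hat A) : ∃ x ∈ Hat A, ∃ κ : K, κ ≠ 0 ∧ (x : R K V) = κ • (y : R K V) ∧ ∃ m, Iv b x m := by
  have := nontrivial_of h
  have hyb : cj K V y ∈ RB b := hSb (h.2.2.2.1 hy)
  obtain ⟨y', hiso, hcj⟩ := Cfsg.Agent.H961.FC.exists_isom b hU hyb
  have hy' : y' ∈ Hat A := by rw [mem_Hat, hcj]; exact hy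
  obtain ⟨c, hc⟩ := pow_scal h hy'
  have hcc : (y' : R K V) * y' = c • (1 : R K V) := by
    rw [← hc, Units.val_pow_eq_pow_val, pow_two]
  obtain ⟨v, w, hvw⟩ := Cfsg.Agent.H961.FC.exists_B_ne b
  have hc1 : c * b.τ c = 1 := by
    have h3 := hiso ((y' : R K V) v) ((y' : R K V) w)
    rw [hiso v w, ← Module.End.mul_apply, ← Module.End.mul_apply, hcc, LinearMap.smul_apply, LinearMap.smul_apply,
      Module.End.one_apply, Module.End.one_apply, b.smul_left, b.smul_right] at h3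
    have h4 : (c * b.τ c - 1) * b.B v w = 0 := by linear_combination h3
    exact sub_eq_zero.1 ((mul_eq_zero.1 h4).resolve_right hvw)
  obtain ⟨d, hd0, hd⟩ := exists_sqrt b.invol hU.1 h2 hc1
  have hdi : d⁻¹ ≠ 0 := inv_ne_zero hd0
  have hτd : b.τ d ≠ 0 := by simpa using hd0
  have hv : ((scU d⁻¹ hdi * y' : (R K V)ˣ) : R K V) = d⁻¹ • (y' : R K V) := by
    rw [Units.val_mul]
    show (d⁻¹ • (1 : R K V)) * _ = _
    rw [smul_mul_assoc, one_mul]
  obtain ⟨κ, hκ0, hκ⟩ := cj_eq hcj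
  refine ⟨scU d⁻¹ hdi * y', mul_mem (scU_mem_Hat A _ _) hy', d⁻¹ * κ, mul_ne_zero hdi hκ0, ?_, d⁻¹ * b.τ d⁻¹, ?_, ?_,
    fun v w => ?_⟩
  · rw [hv, hκ, smul_smul]
  · rw [hv, smul_mul_smul_comm, hcc, smul_smul, hd]
    have h3 : d⁻¹ * d⁻¹ * (d * d) = 1 := by field_simp
    rw [h3, one_smul]
  · have h3 : (d⁻¹ * b.τ d⁻¹) * (d⁻¹ * b.τ d⁻¹) = 1 := by
      rw [map_inv₀]
      rw [hd, map_mul] at hc1
      field_simp
      linear_combination -hc1
    exact mul_self_eq_one_iff.1 h3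
  · rw [hv, LinearMap.smul_apply, LinearMap.smul_apply, b.smul_left, b.smul_right, hiso]
    ring

omit [Finite K] [Module.Finite K V] in
theorem comm_or (h : C6Data S A 2 a) {x y : (R K V)ˣ} (hx : x ∈ Hat A) (hy : y ∈ Hat A) :
    (x : R K V) * y = y * x ∨ (x : R K V) * y = -(y * x) := by
  have := nontrivial_of h
  obtain ⟨c, hc0, hc⟩ := comm_smul h hx hy
  obtain ⟨d, hd⟩ := pow_scal h hx
  have h1 := Cfsg.Agent.H706.FC.zeta_sq hc (c := d) (by rw [← hd, Units.val_pow_eq_pow_val, pow_two])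
  rcases mul_self_eq_one_iff.1 h1 with h3 | h3
  · left; rw [hc, h3, one_smul]
  · right; rw [hc, h3, neg_smul, one_smul]

omit [Finite K] [Module.Finite K V] in
theorem exists_anti (h : C6Data S A 2 a) {x : (R K V)ˣ} (hx : x ∈ Hat A) (hns : ¬ Scal x) :
    ∃ y ∈ Hat A, (x : R K V) * y = -(y * x) := by
  obtain ⟨y, hy, c, hc1, hc2, hc⟩ := exists_conj h hx hns
  refine ⟨y, hy, ?_⟩
  rw [pow_two] at hc2
  rcases mul_self_eq_one_iff.1 hc2 with h3 | h3
  · exact absurd h3 hc1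
  · rw [hc, h3, neg_smul, one_smul]

omit [Finite K] [Module.Finite K V] in
/-- adjustment: a multiple commuting with a given hyperbolic pair -/
theorem adjust (h : C6Data S A 2 a) {Z X y : (R K V)ˣ} (hZ : Z ∈ Hat A) (hX : X ∈ Hat A) (hy : y ∈ Hat A)
    (hZX : (Z : R K V) * X = -(X * Z)) : ∃ P : (R K V)ˣ, (P = 1 ∨ P = X ∨ P = Z ∨ P = X * Z) ∧
      ((y * P : (R K V)ˣ) : R K V) * Z = Z * (y * P : (R K V)ˣ) ∧
      ((y * P : (R K V)ˣ) : R K V) * X = X * (y * P : (R K V)ˣ) := by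
  rcases comm_or h hy hZ with h1 | h1 <;> rcases comm_or h hy hX with h3 | h3
  · exact ⟨1, Or.inl rfl, by rw [mul_one]; exact h1, by rw [mul_one]; exact h3⟩
  · refine ⟨Z, Or.inr (Or.inr (Or.inl rfl)), ?_, ?_⟩
    · rw [Units.val_mul, h1, mul_assoc, h1]
    · rw [Units.val_mul, mul_assoc, hZX, mul_neg, ← mul_assoc, h3, neg_mul, neg_neg, mul_assoc]
  · refine ⟨X, Or.inr (Or.inl rfl), ?_, ?_⟩
    · have h5 : (X : R K V) * Z = -(Z * X) := by rw [hZX, neg_neg]
      rw [Units.val_mul, mul_assoc, h5, mul_neg, ← mul_assoc, h1, neg_mul, neg_neg, mul_assoc]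
    · rw [Units.val_mul, h3, mul_assoc, h3]
  · have h5 : (X : R K V) * Z = -(Z * X) := by rw [hZX, neg_neg]
    refine ⟨X * Z, Or.inr (Or.inr (Or.inr rfl)), ?_, ?_⟩
    · rw [Units.val_mul, Units.val_mul]
      calc (y : R K V) * (X * Z) * Z = y * (-(Z * X)) * Z := by rw [h5]
        _ = -(y * Z) * (X * Z) := by simp only [mul_neg, neg_mul, mul_assoc]
        _ = Z * y * (X * Z) := by rw [h1, neg_neg]
        _ = _ := by simp only [mul_assoc]
    · rw [Units.val_mul, Units.val_mul]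
      calc (y : R K V) * (X * Z) * X = y * X * (Z * X) := by simp only [mul_assoc]
        _ = (-(X * y)) * (-(X * Z)) := by rw [h3, hZX]
        _ = X * (y * (X * Z)) := by simp only [mul_neg, neg_mul, neg_neg, mul_assoc]

omit [Finite K] [Module.Finite K V] in
/-- a second hyperbolic pair -/
theorem exists_plane (h : C6Data S A 2 2) {Z X : (R K V)ˣ} (hZ : Z ∈ Hat A) (hX : X ∈ Hat A)
    (hZX : (Z : R K V) * X = -(X * Z)) : ∃ c ∈ Hat A, ∃ d ∈ Hat A, (c : R K V) * d = -(d * c) ∧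
      (c : R K V) * Z = Z * c ∧ (c : R K V) * X = X * c ∧ (d : R K V) * Z = Z * d ∧ (d : R K V) * X = X * d := by
  classical
  have := nontrivial_of h
  have hP : ∀ P : (R K V)ˣ, (P = 1 ∨ P = X ∨ P = Z ∨ P = X * Z) → P ∈ Hat A := by
    rintro P (rfl | rfl | rfl | rfl)
    · exact one_mem _
    · exact hX
    · exact hZ
    · exact mul_mem hX hZ
  obtain ⟨c, hc, hcs, hcZ, hcX⟩ : ∃ c ∈ Hat A, ¬ Scal c ∧ (c : R K V) * Z = Z * c ∧ (c : R K V) * X = X * c := by
    by_contra hcon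
    push Not at hcon
    let Ps : Fin 4 → (R K V)ˣ := ![1, X, Z, X * Z]
    have hPs : ∀ i, Ps i ∈ Hat A := fun i => hP _ (by
      fin_cases i
      · exact Or.inl rfl
      · exact Or.inr (Or.inl rfl)
      · exact Or.inr (Or.inr (Or.inl rfl))
      · exact Or.inr (Or.inr (Or.inr rfl)))
    let F : Fin 4 → A := fun i => ⟨(cj K V (Ps i))⁻¹, inv_mem (hPs i)⟩
    have hF : Function.Surjective F := by
      rintro ⟨f, hf⟩
      obtain ⟨y, hy⟩ := h.2.2.2.2.1 hf
      have hyA : y ∈ Hat A := by rw [mem_Hat, hy]; exact hf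
      obtain ⟨P, hP', h3, h4⟩ := adjust h hZ hX hyA hZX
      obtain ⟨i, hi⟩ : ∃ i, Ps i = P := by
        rcases hP' with rfl | rfl | rfl | rfl
        · exact ⟨0, rfl⟩
        · exact ⟨1, rfl⟩
        · exact ⟨2, rfl⟩
        · exact ⟨3, rfl⟩
      refine ⟨i, Subtype.ext ?_⟩
      have h5 : Scal (y * P) := by
        by_contra h6
        exact hcon _ (mul_mem hyA (hP P hP')) h6 h3 h4
      have h6 := cj_of_scal h5
      show (cj K V (Ps i))⁻¹ = f
      rw [map_mul, hy] at h6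
      rw [hi]
      exact (eq_inv_of_mul_eq_one_left h6).symm
    have h3 := Nat.card_le_card_of_surjective F hF
    rw [h.2.2.2.2.2.1, Nat.card_eq_fintype_card, Fintype.card_fin] at h3
    norm_num at h3
  obtain ⟨d, hd, hcd⟩ := exists_anti h hc hcs
  obtain ⟨P, hP', h3, h4⟩ := adjust h hZ hX hd hZX
  refine ⟨c, hc, d * P, mul_mem hd (hP P hP'), ?_, hcZ, hcX, h3, h4⟩
  have h5 : (c : R K V) * P = P * c := by
    rcases hP' with rfl | rfl | rfl | rfl
    · rw [Units.val_one, mul_one, one_mul]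
    · exact hcX
    · exact hcZ
    · rw [Units.val_mul, ← mul_assoc, hcX, mul_assoc, hcZ, mul_assoc]
  rw [Units.val_mul, ← mul_assoc, hcd, neg_mul, mul_assoc, h5, mul_assoc]

end lifts

section quad

variable {K : Type u} [Field K] {V : Type v} [AddCommGroup V] [Module K V] {b : Cl K V}
  {S A : Subgroup (Equiv.Perm (R K V))}

theorem scU_mul_val {i : K} (hi0 : i ≠ 0) (x : (R K V)ˣ) :
    ((scU i hi0 * x : (R K V)ˣ) : R K V) = i • (x : R K V) := by
  rw [Units.val_mul]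
  show (i • (1 : R K V)) * _ = _
  rw [smul_mul_assoc, one_mul]

theorem not_scal_of_anti [Nontrivial V] (h2 : (2 : K) ≠ 0) {x y : (R K V)ˣ} (h : (x : R K V) * y = -(y * x)) :
    ¬ Scal x := by
  rintro ⟨c, hc⟩
  rw [hc, smul_mul_assoc, one_mul, mul_smul_comm, mul_one] at h
  have h3 : (2 * c) • (y : R K V) = 0 := by
    rw [two_mul, add_smul]
    nth_rewrite 1 [h]
    exact neg_add_cancel _
  rcases smul_eq_zero.1 h3 with h4 | h4
  · have hc0 : c = 0 := (mul_eq_zero.1 h4).resolve_left h2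
    rw [hc0, zero_smul] at hc
    exact x.ne_zero hc
  · exact y.ne_zero h4

theorem Iv.inv_eq {x : (R K V)ˣ} {m : K} (h : Iv b x m) : x⁻¹ = x := by
  have h1 : x * x = 1 := Units.ext (by rw [Units.val_mul]; exact h.1)
  exact inv_eq_of_mul_eq_one_left h1

theorem Iv.fu_one {x : (R K V)ˣ} (h : Iv b x 1) {g : Equiv.Perm (R K V)} (hg : g ∈ RB b) :
    Iv b (Cfsg.Agent.H706.FC.fu hg.1 x) 1 := by
  have h3 : (Cfsg.Agent.H706.FC.fu hg.1 x : R K V) * (Cfsg.Agent.H706.FC.fu hg.1 x : R K V) = 1 := by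
    rw [Cfsg.Agent.H706.FC.fu_val, ← hg.1.2, h.1, Cfsg.Agent.H706.FC.RP_map_one hg.1]
  have h4 : b.Adj (x : R K V) (x : R K V) := by
    intro v w
    have h5 := h.2.2 v ((x : R K V) w)
    rw [h.app, one_mul] at h5
    exact h5
  have h5 := (Cfsg.Agent.H706.FC.RB_adj hg _ _).1 h4
  refine ⟨h3, Or.inl rfl, fun v w => ?_⟩
  rw [Cfsg.Agent.H706.FC.fu_val, h5, one_mul, ← Module.End.mul_apply, ← Cfsg.Agent.H706.FC.fu_val hg.1 x, h3,
    Module.End.one_apply]

variable [Finite K] [Module.Finite K V] {a : ℕ}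

omit [Finite K] [Module.Finite K V] in
theorem exists_nonscal (h : C6Data S A 2 a) : ∃ x ∈ Hat A, ¬ Scal x := by
  by_contra hcon
  push Not at hcon
  have hA : A = ⊥ := by
    rw [eq_bot_iff]
    intro f hf
    obtain ⟨x, hx⟩ := h.2.2.2.2.1 hf
    have h1 := hcon x (by rw [mem_Hat, hx]; exact hf)
    rw [Subgroup.mem_bot, ← hx]
    exact cj_of_scal h1
  have h1 := h.2.2.2.2.2.1
  rw [hA] at h1
  have h2 : Nat.card (⊥ : Subgroup (Equiv.Perm (R K V))) = 1 := by simp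
  rw [h2] at h1
  have h3 := h.2.1
  have h4 : 1 < 2 ^ (2 * a) := Nat.one_lt_pow (by omega) (by norm_num)
  omega

/-- **all lifts are isometries if `τ i = - i`** -/
theorem all_one (hU : b.IsU) (h2 : (2 : K) ≠ 0) (h : C6Data S A 2 a) (hSb : S ≤ RB b) {i : K} (hi : i * i = -1)
    (hτi : b.τ i = -i) {x : (R K V)ˣ} (hx : x ∈ Hat A) {m : K} (hm : Iv b x m) : m = 1 := by
  have := nontrivial_of h
  have hi0 : i ≠ 0 := by
    rintro rfl
    rw [mul_zero] at hi
    exact neg_ne_zero.2 one_ne_zero hi.symm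
  have hn : i * b.τ i = 1 := by rw [hτi, mul_neg, hi, neg_neg]
  let B : Subgroup (Equiv.Perm (R K V)) :=
    { carrier := {f | ∃ x ∈ Hat A, Iv b x 1 ∧ cj K V x = f}
      one_mem' := by
        refine ⟨1, one_mem _, ⟨?_, Or.inl rfl, fun v w => ?_⟩, map_one _⟩
        · rw [Units.val_one, mul_one]
        · rw [one_mul]; rfl
      mul_mem' := by
        rintro f g ⟨x, hx, hx1, rfl⟩ ⟨y, hy, hy1, rfl⟩
        rcases comm_or h hx hy with h3 | h3
        · refine ⟨x * y, mul_mem hx hy, ?_, map_mul _ _ _⟩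
          have h4 := hx1.mul hy1 h3
          rwa [mul_one] at h4
        · refine ⟨scU i hi0 * (x * y), mul_mem (scU_mem_Hat A _ _) (mul_mem hx hy), ?_, ?_⟩
          · have h4 := hx1.mul_anti hy1 h3 hi0 hi hn (Or.inl rfl)
            rwa [mul_one, mul_one] at h4
          · rw [map_mul, cj_of_scal (⟨i, rfl⟩ : Scal (scU i hi0)), one_mul, map_mul]
      inv_mem' := by
        rintro f ⟨x, hx, hx1, rfl⟩
        exact ⟨x, hx, hx1, by rw [← map_inv, hx1.inv_eq]⟩ }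
  have hBA : B ≤ A := by
    rintro f ⟨x, hx, -, rfl⟩
    exact hx
  have hBS : ∀ g ∈ S, ∀ f ∈ B, g * f * g⁻¹ ∈ B := by
    rintro g hg f ⟨x, hx, hx1, rfl⟩
    have h3 : cj K V (Cfsg.Agent.H706.FC.fu (hSb hg).1 x) = g * cj K V x * g⁻¹ := by
      rw [Cfsg.Agent.H706.FC.f_cj (hSb hg).1 x, mul_inv_cancel_right]
    refine ⟨Cfsg.Agent.H706.FC.fu (hSb hg).1 x, ?_, hx1.fu_one (hSb hg), h3⟩
    rw [mem_Hat, h3]
    exact h.2.2.2.2.2.2.2.2.2.1 g hg _ hx
  rcases h.2.2.2.2.2.2.2.2.2.2 B hBA hBS with h3 | h3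
  · exfalso
    obtain ⟨x₀, hx₀, hns⟩ := exists_nonscal h
    obtain ⟨y₀, hy₀, hxy₀⟩ := exists_anti h hx₀ hns
    obtain ⟨x, hx, κ, hκ0, hxκ, m, hxm⟩ := exists_lift hU h2 h hSb hx₀
    obtain ⟨y, hy, κ', hκ'0, hyκ, m', hym⟩ := exists_lift hU h2 h hSb hy₀
    have hxy : (x : R K V) * y = -(y * x) := by
      rw [hxκ, hyκ, smul_mul_smul_comm, smul_mul_smul_comm, hxy₀, mul_comm κ', smul_neg]
    have hbot : ∀ z ∈ Hat A, Iv b z 1 → Scal z := by
      intro z hz hz1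
      have h4 : cj K V z ∈ B := ⟨z, hz, hz1, rfl⟩
      rw [h3, Subgroup.mem_bot] at h4
      exact scal_of_cj h4
    have hx' : ¬ Scal x := not_scal_of_anti h2 hxy
    have hy' : ¬ Scal y := not_scal_of_anti h2 (by rw [hxy, neg_neg] : (y : R K V) * x = -(x * y))
    rcases hxm.2.1 with rfl | rfl
    · exact hx' (hbot x hx hxm)
    rcases hym.2.1 with rfl | rfl
    · exact hy' (hbot y hy hym)
    have h4 := hxm.mul_anti hym hxy hi0 hi hn (Or.inl rfl)
    have h5 : (1 : K) * (-1 * -1) = 1 := by ring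
    rw [h5] at h4
    have h6 := hbot _ (mul_mem (scU_mem_Hat A _ _) (mul_mem hx hy)) h4
    refine not_scal_of_anti (x := scU i hi0 * (x * y)) (y := y) h2 ?_ h6
    rw [scU_mul_val, Units.val_mul, smul_mul_assoc, mul_smul_comm, ← smul_neg]
    congr 1
    rw [← mul_assoc (y : R K V), mul_assoc, ← neg_mul, ← hxy, mul_assoc]
  · have h4 : cj K V x ∈ B := by rw [h3]; exact hx
    obtain ⟨x', hx', hx1, hc⟩ := h4
    obtain ⟨κ, hκ0, hκ⟩ := cj_eq hc.symm
    have h5 : κ * κ = 1 := by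
      have h6 := hm.1
      have h7 := hx1.1
      rw [hκ, smul_mul_smul_comm, h7] at h6
      have h8 : (κ * κ) • (1 : R K V) = (1 : K) • 1 := by rw [h6, one_smul]
      exact smul_one_inj h8
    obtain ⟨v, w, hvw⟩ := Cfsg.Agent.H961.FC.exists_B_ne b
    have h6 := hm.2.2 v w
    rw [hκ, LinearMap.smul_apply, LinearMap.smul_apply, b.smul_left, b.smul_right, hx1.2.2, one_mul] at h6
    have h7 : κ * b.τ κ = 1 := by
      rcases mul_self_eq_one_iff.1 h5 with h8 | h8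
      · rw [h8, map_one, mul_one]
      · rw [h8, map_neg, map_one]; ring
    have h8 : (m - 1) * b.B v w = 0 := by linear_combination (-h6) + b.B v w * h7
    exact sub_eq_zero.1 ((mul_eq_zero.1 h8).resolve_right hvw)

/-- the frame -/
structure Quad (b : Cl K V) (A : Subgroup (Equiv.Perm (R K V))) (Z1 X1 Z2 X2 : (R K V)ˣ) (m : K) : Prop where
  hZ1 : Z1 ∈ Hat A
  hX1 : X1 ∈ Hat A
  hZ2 : Z2 ∈ Hat A
  hX2 : X2 ∈ Hat A
  iZ1 : Iv b Z1 1
  iX1 : Iv b X1 1
  iZ2 : Iv b Z2 m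
  iX2 : Iv b X2 m
  a1 : (Z1 : R K V) * X1 = -(X1 * Z1)
  a2 : (Z2 : R K V) * X2 = -(X2 * Z2)
  c1 : (Z1 : R K V) * Z2 = Z2 * Z1
  c2 : (Z1 : R K V) * X2 = X2 * Z1
  c3 : (X1 : R K V) * Z2 = Z2 * X1
  c4 : (X1 : R K V) * X2 = X2 * X1

omit [Finite K] [Module.Finite K V] in
/-- adjusting a pair -/
theorem pair_adj {i : K} (hi0 : i ≠ 0) (hi : i * i = -1) (hτi : b.τ i = i) {Z X : (R K V)ˣ} (hZ : Z ∈ Hat A)
    (hX : X ∈ Hat A) {m m' : K} (iZ : Iv b Z m) (iX : Iv b X m') (hZX : (Z : R K V) * X = -(X * Z))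
    (hm : ¬ (m = -1 ∧ m' = -1)) : ∃ Z' ∈ Hat A, ∃ X' ∈ Hat A, (Z' : R K V) * X' = -(X' * Z') ∧ Iv b Z' 1 ∧
      Iv b X' 1 ∧ ∀ y : (R K V)ˣ, (y : R K V) * Z = Z * y → (y : R K V) * X = X * y →
        (y : R K V) * Z' = Z' * y ∧ (y : R K V) * X' = X' * y := by
  have hn : i * b.τ i = -1 := by rw [hτi, hi]
  have hc : ∀ y : (R K V)ˣ, (y : R K V) * Z = Z * y → (y : R K V) * X = X * y →
      (y : R K V) * (scU i hi0 * (Z * X) : (R K V)ˣ) = (scU i hi0 * (Z * X) : (R K V)ˣ) * y := by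
    intro y h1 h3
    rw [scU_mul_val, Units.val_mul, mul_smul_comm, smul_mul_assoc, ← mul_assoc, h1, mul_assoc, h3, mul_assoc]
  have hXZ : (X : R K V) * Z = -(Z * X) := by rw [hZX, neg_neg]
  rcases iZ.2.1 with rfl | rfl <;> rcases iX.2.1 with rfl | rfl
  · exact ⟨Z, hZ, X, hX, hZX, iZ, iX, fun y h1 h3 => ⟨h1, h3⟩⟩
  · refine ⟨Z, hZ, scU i hi0 * (Z * X), mul_mem (scU_mem_Hat A _ _) (mul_mem hZ hX), ?_, iZ, ?_,
      fun y h1 h3 => ⟨h1, hc y h1 h3⟩⟩
    · rw [scU_mul_val, Units.val_mul, smul_mul_assoc, mul_smul_comm, ← smul_neg]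
      congr 1
      rw [mul_assoc, hXZ, mul_neg, neg_neg]
    · have h4 := iZ.mul_anti iX hZX hi0 hi hn (Or.inr rfl)
      have h5 : (-1 : K) * (1 * -1) = 1 := by ring
      rwa [h5] at h4
  · refine ⟨scU i hi0 * (Z * X), mul_mem (scU_mem_Hat A _ _) (mul_mem hZ hX), X, hX, ?_, ?_, iX,
      fun y h1 h3 => ⟨hc y h1 h3, h3⟩⟩
    · rw [scU_mul_val, Units.val_mul, smul_mul_assoc, mul_smul_comm, ← smul_neg]
      congr 1
      rw [← mul_assoc, hXZ, neg_mul, neg_neg]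
    · have h4 := iZ.mul_anti iX hZX hi0 hi hn (Or.inr rfl)
      have h5 : (-1 : K) * (-1 * 1) = 1 := by ring
      rwa [h5] at h4
  · exact absurd ⟨rfl, rfl⟩ hm

/-- **the frame** -/
theorem exists_quad (hU : b.IsU) (h2 : (2 : K) ≠ 0) (h : C6Data S A 2 2) (hSb : S ≤ RB b) :
    ∃ Z1 X1 Z2 X2 : (R K V)ˣ, Quad b A Z1 X1 Z2 X2 1 ∨
      (Quad b A Z1 X1 Z2 X2 (-1) ∧ ∃ i : K, i * i = -1 ∧ b.τ i = i) := by
  have := nontrivial_of h
  obtain ⟨κ, -, -, hsq, -⟩ := exists_kappa b.invol hU.1 h2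
  obtain ⟨i, hi⟩ := hsq (-1) (by rw [map_neg, map_one])
  replace hi : i * i = -1 := hi.symm
  have hi0 : i ≠ 0 := by
    rintro rfl
    rw [mul_zero] at hi
    exact neg_ne_zero.2 one_ne_zero hi.symm
  have hτ : b.τ i = i ∨ b.τ i = -i := by
    apply mul_self_eq_mul_self_iff.1
    rw [← map_mul, hi, map_neg, map_one]
  -- pairs of lifts
  have hlift : ∀ z ∈ Hat A, ∀ x ∈ Hat A, (z : R K V) * x = -(x * z) → ∃ Z ∈ Hat A, ∃ X ∈ Hat A,
      (Z : R K V) * X = -(X * Z) ∧ (∃ m, Iv b Z m) ∧ (∃ m, Iv b X m) ∧ ∀ y : (R K V)ˣ, (z : R K V) * y = y * z →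
        (x : R K V) * y = y * x → (Z : R K V) * y = y * Z ∧ (X : R K V) * y = y * X := by
    intro z hz x hx hzx
    obtain ⟨Z, hZ, c, -, hZc, mZ⟩ := exists_lift hU h2 h hSb hz
    obtain ⟨X, hX, d, -, hXd, mX⟩ := exists_lift hU h2 h hSb hx
    refine ⟨Z, hZ, X, hX, ?_, mZ, mX, fun y h1 h3 => ⟨?_, ?_⟩⟩
    · rw [hZc, hXd, smul_mul_smul_comm, smul_mul_smul_comm, hzx, mul_comm c, smul_neg]
    · rw [hZc, smul_mul_assoc, mul_smul_comm, h1]
    · rw [hXd, smul_mul_assoc, mul_smul_comm, h3]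
  obtain ⟨x₀, hx₀, hns⟩ := exists_nonscal h
  obtain ⟨y₀, hy₀, hxy₀⟩ := exists_anti h hx₀ hns
  obtain ⟨Z, hZ, X, hX, hZX, ⟨m, iZ⟩, ⟨m', iX⟩, -⟩ := hlift _ hx₀ _ hy₀ hxy₀
  -- the second plane
  have hsec : ∀ Z ∈ Hat A, ∀ X ∈ Hat A, (Z : R K V) * X = -(X * Z) → ∃ Z2 ∈ Hat A, ∃ X2 ∈ Hat A,
      (Z2 : R K V) * X2 = -(X2 * Z2) ∧ (∃ m, Iv b Z2 m) ∧ (∃ m, Iv b X2 m) ∧ (Z : R K V) * Z2 = Z2 * Z ∧
        (Z : R K V) * X2 = X2 * Z ∧ (X : R K V) * Z2 = Z2 * X ∧ (X : R K V) * X2 = X2 * X := by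
    intro Z hZ X hX hZX
    obtain ⟨c, hc, d, hd, hcd, h1, h3, h4, h5⟩ := exists_plane h hZ hX hZX
    obtain ⟨Z2, hZ2, cc, -, hZc, mZ⟩ := exists_lift hU h2 h hSb hc
    obtain ⟨X2, hX2, dd, -, hXd, mX⟩ := exists_lift hU h2 h hSb hd
    refine ⟨Z2, hZ2, X2, hX2, ?_, mZ, mX, ?_, ?_, ?_, ?_⟩
    · rw [hZc, hXd, smul_mul_smul_comm, smul_mul_smul_comm, hcd, mul_comm cc, smul_neg]
    · rw [hZc, smul_mul_assoc, mul_smul_comm, h1]
    · rw [hXd, smul_mul_assoc, mul_smul_comm, h4]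
    · rw [hZc, smul_mul_assoc, mul_smul_comm, h3]
    · rw [hXd, smul_mul_assoc, mul_smul_comm, h5]
  rcases hτ with hτ | hτ
  swap
  · obtain ⟨Z2, hZ2, X2, hX2, a2, ⟨m2, iZ2⟩, ⟨m2', iX2⟩, c1, c2, c3, c4⟩ := hsec Z hZ X hX hZX
    have e1 := all_one hU h2 h hSb hi hτ hZ iZ
    have e2 := all_one hU h2 h hSb hi hτ hX iX
    have e3 := all_one hU h2 h hSb hi hτ hZ2 iZ2
    have e4 := all_one hU h2 h hSb hi hτ hX2 iX2
    subst e1 e2 e3 e4
    exact ⟨Z, X, Z2, X2, Or.inl ⟨hZ, hX, hZ2, hX2, iZ, iX, iZ2, iX2, hZX, a2, c1, c2, c3, c4⟩⟩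
  · -- a pair of isometries
    obtain ⟨Z1, hZ1, X1, hX1, a1, iZ1, iX1⟩ : ∃ Z1 ∈ Hat A, ∃ X1 ∈ Hat A, (Z1 : R K V) * X1 = -(X1 * Z1) ∧
        Iv b Z1 1 ∧ Iv b X1 1 := by
      by_cases hmm : m = -1 ∧ m' = -1
      · obtain ⟨rfl, rfl⟩ := hmm
        obtain ⟨Z2, hZ2, X2, hX2, a2, ⟨m2, iZ2⟩, ⟨m2', iX2⟩, c1, c2, c3, c4⟩ := hsec Z hZ X hX hZX
        by_cases hmm : m2 = -1 ∧ m2' = -1
        · obtain ⟨rfl, rfl⟩ := hmm
          have h3 := iZ.mul iZ2 c1
          have h4 : (-1 : K) * -1 = 1 := by ring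
          rw [h4] at h3
          have h5 : ((Z * Z2 : (R K V)ˣ) : R K V) * X = -(X * (Z * Z2 : (R K V)ˣ)) := by
            rw [Units.val_mul, mul_assoc, ← c3, ← mul_assoc, hZX, neg_mul, mul_assoc]
          obtain ⟨Z', hZ', X', hX', h6, h7, h8, -⟩ := pair_adj hi0 hi hτ (mul_mem hZ hZ2) hX h3 iX h5 (by
            rintro ⟨h6, -⟩
            apply h2
            linear_combination h6)
          exact ⟨Z', hZ', X', hX', h6, h7, h8⟩
        · obtain ⟨Z', hZ', X', hX', h6, h7, h8, -⟩ := pair_adj hi0 hi hτ hZ2 hX2 iZ2 iX2 a2 hmm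
          exact ⟨Z', hZ', X', hX', h6, h7, h8⟩
      · obtain ⟨Z', hZ', X', hX', h6, h7, h8, -⟩ := pair_adj hi0 hi hτ hZ hX iZ iX hZX hmm
        exact ⟨Z', hZ', X', hX', h6, h7, h8⟩
    obtain ⟨Z2, hZ2, X2, hX2, a2, ⟨m2, iZ2⟩, ⟨m2', iX2⟩, c1, c2, c3, c4⟩ := hsec Z1 hZ1 X1 hX1 a1
    by_cases hmm : m2 = -1 ∧ m2' = -1
    · obtain ⟨rfl, rfl⟩ := hmm
      exact ⟨Z1, X1, Z2, X2, Or.inr ⟨⟨hZ1, hX1, hZ2, hX2, iZ1, iX1, iZ2, iX2, a1, a2, c1, c2, c3, c4⟩, i, hi, hτ⟩⟩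
    · obtain ⟨Z', hZ', X', hX', h6, h7, h8, h9⟩ := pair_adj hi0 hi hτ hZ2 hX2 iZ2 iX2 a2 hmm
      obtain ⟨d1, d2⟩ := h9 Z1 c1 c2
      obtain ⟨d3, d4⟩ := h9 X1 c3 c4
      exact ⟨Z1, X1, Z', X', Or.inl ⟨hZ1, hX1, hZ', hX', iZ1, iX1, h7, h8, a1, h6, d1, d2, d3, d4⟩⟩

end quad

/-! ### signs and shifts -/

/-- a sign -/
def sg (K : Type u) [Field K] (c : Bool) : K := bif c then -1 else 1

/-- the characters -/
def ps (p : Bool × Bool) (j : Fin 4) : Bool := ![false, p.1, p.2, xor p.1 p.2] j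

/-- the addition of `(ℤ / 2) ^ 2` -/
def sh (s j : Fin 4) : Fin 4 := ![![0, 1, 2, 3], ![1, 0, 3, 2], ![2, 3, 0, 1], ![3, 2, 1, 0]] s j

section sg

variable {K : Type u} [Field K]

theorem sg_xor (c d : Bool) : sg K (xor c d) = sg K c * sg K d := by
  cases c <;> cases d <;> simp [sg]

theorem sg_sq (c : Bool) : sg K c * sg K c = 1 := by cases c <;> simp [sg]

theorem sg_ne (c : Bool) : sg K c ≠ 0 := left_ne_zero_of_mul_eq_one (sg_sq c)

theorem sg_inj (h2 : (2 : K) ≠ 0) {c d : Bool} (h : sg K c = sg K d) : c = d := by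
  have h11 : (-1 : K) ≠ 1 := by
    intro h
    apply h2
    linear_combination -h
  cases c <;> cases d <;> simp [sg] at h ⊢
  · exact h11 h.symm
  · exact h11 h

theorem sg_map {L : Type v} [Field L] (σ : K →+* L) (c : Bool) : σ (sg K c) = sg L c := by
  cases c <;> simp [sg]

theorem sh_inj (s : Fin 4) : Function.Injective (sh s) := by
  intro i j
  revert s i j
  decide

end sg

section basis

variable {K : Type u} [Field K] {V : Type v} [AddCommGroup V] [Module K V] {b : Cl K V}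
  {A : Subgroup (Equiv.Perm (R K V))}

theorem exists_eig {Z X : (R K V)ˣ} (hZ : (Z : R K V) * Z = 1)
    (hZX : (Z : R K V) * X = -(X * Z)) (u : V) (hu : u ≠ 0) :
    ∃ v, v ≠ 0 ∧ (Z : R K V) v = v ∧ (v = u + (Z : R K V) u ∨ v = (X : R K V) u) := by
  by_cases h : u + (Z : R K V) u = 0
  · refine ⟨(X : R K V) u, ?_, ?_, Or.inr rfl⟩
    · intro h3
      apply hu
      have h4 : ((X⁻¹ : (R K V)ˣ) : R K V) ((X : R K V) u) = u := by
        rw [← Module.End.mul_apply, Units.inv_mul]; rfl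
      rw [h3, map_zero] at h4
      exact h4.symm
    · have h3 : (Z : R K V) u = -u := (neg_eq_of_add_eq_zero_right h).symm
      rw [← Module.End.mul_apply, hZX, LinearMap.neg_apply, Module.End.mul_apply, h3, map_neg, neg_neg]
  · refine ⟨_, h, ?_, Or.inl rfl⟩
    rw [map_add, ← Module.End.mul_apply, hZ, Module.End.one_apply, add_comm]

/-- the basis -/
structure Bas (Z1 X1 Z2 X2 : (R K V)ˣ) (e : Module.Basis (Fin 4) K V) : Prop where
  z1 : ∀ j, (Z1 : R K V) (e j) = sg K (ps (true, false) j) • e j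
  z2 : ∀ j, (Z2 : R K V) (e j) = sg K (ps (false, true) j) • e j
  x1 : ∀ j, (X1 : R K V) (e j) = e (sh 1 j)
  x2 : ∀ j, (X2 : R K V) (e j) = e (sh 2 j)

theorem exists_basis (h2 : (2 : K) ≠ 0) (hn : Module.finrank K V = 4) {Z1 X1 Z2 X2 : (R K V)ˣ} {m : K}
    (hQ : Quad b A Z1 X1 Z2 X2 m) : ∃ e : Module.Basis (Fin 4) K V, Bas Z1 X1 Z2 X2 e := by
  have : Nontrivial V := Module.nontrivial_of_finrank_pos (R := K) (by omega)
  obtain ⟨u, hu⟩ := exists_ne (0 : V)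
  obtain ⟨v, hv0, hv1, -⟩ := exists_eig hQ.iZ1.1 hQ.a1 u hu
  obtain ⟨e, he0, he2, hev⟩ := exists_eig hQ.iZ2.1 hQ.a2 v hv0
  have he1 : (Z1 : R K V) e = e := by
    rcases hev with h3 | h3
    · rw [h3, map_add, hv1, ← Module.End.mul_apply, hQ.c1, Module.End.mul_apply, hv1]
    · rw [h3, ← Module.End.mul_apply, hQ.c2, Module.End.mul_apply, hv1]
  let E : Fin 4 → V := ![e, (X1 : R K V) e, (X2 : R K V) e, (X1 : R K V) ((X2 : R K V) e)]
  have hc4 : ∀ v, (X2 : R K V) ((X1 : R K V) v) = (X1 : R K V) ((X2 : R K V) v) := by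
    intro v
    rw [← Module.End.mul_apply, ← hQ.c4, Module.End.mul_apply]
  have ha1 : ∀ v, (Z1 : R K V) ((X1 : R K V) v) = -((X1 : R K V) ((Z1 : R K V) v)) := by
    intro v
    rw [← Module.End.mul_apply, hQ.a1, LinearMap.neg_apply, Module.End.mul_apply]
  have ha2 : ∀ v, (Z2 : R K V) ((X2 : R K V) v) = -((X2 : R K V) ((Z2 : R K V) v)) := by
    intro v
    rw [← Module.End.mul_apply, hQ.a2, LinearMap.neg_apply, Module.End.mul_apply]
  have hb1 : ∀ v, (Z1 : R K V) ((X2 : R K V) v) = (X2 : R K V) ((Z1 : R K V) v) := by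
    intro v
    rw [← Module.End.mul_apply, hQ.c2, Module.End.mul_apply]
  have hb2 : ∀ v, (Z2 : R K V) ((X1 : R K V) v) = (X1 : R K V) ((Z2 : R K V) v) := by
    intro v
    rw [← Module.End.mul_apply, ← hQ.c3, Module.End.mul_apply]
  have z1 : ∀ j, (Z1 : R K V) (E j) = sg K (ps (true, false) j) • E j := by
    intro j
    fin_cases j
    · simp [E, ps, sg, he1]
    · simp [E, ps, sg, he1, ha1]
    · simp [E, ps, sg, he1, hb1]
    · simp [E, ps, sg, he1, ha1, hb1]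
  have z2 : ∀ j, (Z2 : R K V) (E j) = sg K (ps (false, true) j) • E j := by
    intro j
    fin_cases j
    · simp [E, ps, sg, he2]
    · simp [E, ps, sg, he2, hb2]
    · simp [E, ps, sg, he2, ha2]
    · simp [E, ps, sg, he2, ha2, hb2]
  have x1 : ∀ j, (X1 : R K V) (E j) = E (sh 1 j) := by
    intro j
    fin_cases j
    · rfl
    · exact hQ.iX1.app _
    · rfl
    · exact hQ.iX1.app _
  have x2 : ∀ j, (X2 : R K V) (E j) = E (sh 2 j) := by
    intro j
    fin_cases j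
    · rfl
    · exact hc4 _
    · exact hQ.iX2.app _
    · show (X2 : R K V) ((X1 : R K V) ((X2 : R K V) e)) = (X1 : R K V) e
      rw [hc4, hQ.iX2.app]
  have hE : ∀ j, E j ≠ 0 := by
    have hinj : ∀ (X : (R K V)ˣ) (v : V), v ≠ 0 → (X : R K V) v ≠ 0 := by
      intro X v hv h3
      apply hv
      have h4 : ((X⁻¹ : (R K V)ˣ) : R K V) ((X : R K V) v) = v := by
        rw [← Module.End.mul_apply, Units.inv_mul]; rfl
      rw [h3, map_zero] at h4
      exact h4.symm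
    intro j
    fin_cases j
    · exact he0
    · exact hinj _ _ he0
    · exact hinj _ _ he0
    · exact hinj _ _ (hinj _ _ he0)
  have hli : LinearIndependent K E := by
    rw [Fintype.linearIndependent_iff]
    intro g hg
    rw [Fin.sum_univ_four] at hg
    have hg1 := congrArg (Z1 : R K V) hg
    simp only [map_add, map_smul, z1, map_zero] at hg1
    have hg2 := congrArg (Z2 : R K V) hg
    simp only [map_add, map_smul, z2, map_zero] at hg2
    have hg3 := congrArg (Z2 : R K V) hg1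
    simp only [map_add, map_smul, z2, map_zero] at hg3
    simp [ps, sg] at hg1 hg2 hg3
    have key : ∀ j, (2 : K) • (2 : K) • (g j • E j) = 0 := by
      intro j
      fin_cases j
      · show (2 : K) • (2 : K) • (g 0 • E 0) = 0
        rw [show (2 : K) • (2 : K) • (g 0 • E 0) = (g 0 • E 0 + g 1 • E 1 + g 2 • E 2 + g 3 • E 3) +
          (g 0 • E 0 + -(g 1 • E 1) + g 2 • E 2 + -(g 3 • E 3)) +
          (g 0 • E 0 + g 1 • E 1 + -(g 2 • E 2) + -(g 3 • E 3)) +
          (g 0 • E 0 + -(g 1 • E 1) + -(g 2 • E 2) + g 3 • E 3) by module,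
          hg, hg1, hg2, hg3]
        simp
      · show (2 : K) • (2 : K) • (g 1 • E 1) = 0
        rw [show (2 : K) • (2 : K) • (g 1 • E 1) = (g 0 • E 0 + g 1 • E 1 + g 2 • E 2 + g 3 • E 3) -
          (g 0 • E 0 + -(g 1 • E 1) + g 2 • E 2 + -(g 3 • E 3)) +
          (g 0 • E 0 + g 1 • E 1 + -(g 2 • E 2) + -(g 3 • E 3)) -
          (g 0 • E 0 + -(g 1 • E 1) + -(g 2 • E 2) + g 3 • E 3) by module,
          hg, hg1, hg2, hg3]
        simp
      · show (2 : K) • (2 : K) • (g 2 • E 2) = 0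
        rw [show (2 : K) • (2 : K) • (g 2 • E 2) = (g 0 • E 0 + g 1 • E 1 + g 2 • E 2 + g 3 • E 3) +
          (g 0 • E 0 + -(g 1 • E 1) + g 2 • E 2 + -(g 3 • E 3)) -
          (g 0 • E 0 + g 1 • E 1 + -(g 2 • E 2) + -(g 3 • E 3)) -
          (g 0 • E 0 + -(g 1 • E 1) + -(g 2 • E 2) + g 3 • E 3) by module,
          hg, hg1, hg2, hg3]
        simp
      · show (2 : K) • (2 : K) • (g 3 • E 3) = 0
        rw [show (2 : K) • (2 : K) • (g 3 • E 3) = (g 0 • E 0 + g 1 • E 1 + g 2 • E 2 + g 3 • E 3) -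
          (g 0 • E 0 + -(g 1 • E 1) + g 2 • E 2 + -(g 3 • E 3)) -
          (g 0 • E 0 + g 1 • E 1 + -(g 2 • E 2) + -(g 3 • E 3)) +
          (g 0 • E 0 + -(g 1 • E 1) + -(g 2 • E 2) + g 3 • E 3) by module,
          hg, hg1, hg2, hg3]
        simp
    intro j
    have h3 := key j
    rcases smul_eq_zero.1 h3 with h4 | h4
    · exact absurd h4 h2
    rcases smul_eq_zero.1 h4 with h5 | h5
    · exact absurd h5 h2
    rcases smul_eq_zero.1 h5 with h6 | h6
    · exact h6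
    · exact absurd h6 (hE j)
  have hcard : Fintype.card (Fin 4) = Module.finrank K V := by rw [hn, Fintype.card_fin]
  have hcoe : ⇑(basisOfLinearIndependentOfCardEqFinrank hli hcard) = E :=
    coe_basisOfLinearIndependentOfCardEqFinrank hli hcard
  refine ⟨basisOfLinearIndependentOfCardEqFinrank hli hcard, ?_, ?_, ?_, ?_⟩ <;> intro j <;> rw [hcoe]
  · exact z1 j
  · exact z2 j
  · exact x1 j
  · exact x2 j

theorem B_basis (e : Module.Basis (Fin 4) K V) {v : V} (h : ∀ j, b.B v (e j) = 0) : v = 0 := by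
  apply b.nondeg
  intro w
  let φ : V →+ K := AddMonoidHom.mk' (b.B v) (b.add_right v)
  have hφ : ∀ w, φ w = b.B v w := fun _ => rfl
  rw [← hφ, ← e.sum_repr w, map_sum]
  refine Finset.sum_eq_zero fun j _ => ?_
  rw [hφ, b.smul_right, h, mul_zero]

theorem gram_z {Z : (R K V)ˣ} {m : K} (hZ : Iv b Z m) {e : Module.Basis (Fin 4) K V} {p : Bool × Bool}
    (h : ∀ j, (Z : R K V) (e j) = sg K (ps p j) • e j) (i j : Fin 4) :
    sg K (xor (ps p i) (ps p j)) * b.B (e i) (e j) = m * b.B (e i) (e j) := by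
  have h1 := hZ.2.2 (e i) (e j)
  rw [h, h, b.smul_left, b.smul_right] at h1
  have h3 : b.τ (sg K (ps p j)) = sg K (ps p j) := sg_map (b.τ : K →+* K) _
  rw [h3] at h1
  rw [sg_xor, ← h1]
  ring

theorem neg_zero_of (h2 : (2 : K) ≠ 0) {x : K} (h : -1 * x = 1 * x) : x = 0 := by
  have h3 : 2 * x = 0 := by linear_combination -h
  exact (mul_eq_zero.1 h3).resolve_left h2

/-- the Gram matrix in the hyperbolic case -/
theorem gram_one (h2 : (2 : K) ≠ 0) {Z1 X1 Z2 X2 : (R K V)ˣ} (hQ : Quad b A Z1 X1 Z2 X2 1)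
    {e : Module.Basis (Fin 4) K V} (he : Bas Z1 X1 Z2 X2 e) (hU : b.IsU) :
    ∃ β : K, β ≠ 0 ∧ b.τ β = β ∧ ∀ i j, b.B (e i) (e j) = if i = j then β else 0 := by
  have hx1 : ∀ i j, b.B (e (sh 1 i)) (e (sh 1 j)) = b.B (e i) (e j) := by
    intro i j
    rw [← he.x1, ← he.x1, hQ.iX1.2.2, one_mul]
  have hx2 : ∀ i j, b.B (e (sh 2 i)) (e (sh 2 j)) = b.B (e i) (e j) := by
    intro i j
    rw [← he.x2, ← he.x2, hQ.iX2.2.2, one_mul]
  have hG : ∀ i j, b.B (e i) (e j) = if i = j then b.B (e 0) (e 0) else 0 := by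
    intro i j
    split_ifs with hij
    · subst hij
      fin_cases i
      · rfl
      · exact hx1 0 0
      · exact hx2 0 0
      · exact (hx1 2 2).trans (hx2 0 0)
    · have hd : ∀ i j : Fin 4, i ≠ j → xor (ps (true, false) i) (ps (true, false) j) = true ∨
          xor (ps (false, true) i) (ps (false, true) j) = true := by decide
      rcases hd i j hij with h3 | h3
      · have h4 := gram_z hQ.iZ1 he.z1 i j
        rw [h3] at h4
        exact neg_zero_of h2 h4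
      · have h4 := gram_z hQ.iZ2 he.z2 i j
        rw [h3] at h4
        exact neg_zero_of h2 h4
  refine ⟨b.B (e 0) (e 0), fun h0 => ?_, (hU.2 _ _).symm, hG⟩
  apply e.ne_zero 0
  apply B_basis (b := b) e
  intro j
  rw [hG, h0, ite_self]

/-- the Gram matrix in the elliptic case -/
theorem gram_neg (h2 : (2 : K) ≠ 0) {Z1 X1 Z2 X2 : (R K V)ˣ} (hQ : Quad b A Z1 X1 Z2 X2 (-1))
    {e : Module.Basis (Fin 4) K V} (he : Bas Z1 X1 Z2 X2 e) (hU : b.IsU) :
    ∃ γ : K, γ ≠ 0 ∧ b.τ γ = -γ ∧ ∀ i j, b.B (e i) (e j) = if sh 2 i = j then (if i < j then γ else -γ) else 0 := by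
  have hx1 : ∀ i j, b.B (e (sh 1 i)) (e (sh 1 j)) = b.B (e i) (e j) := by
    intro i j
    rw [← he.x1, ← he.x1, hQ.iX1.2.2, one_mul]
  have hx2 : ∀ i j, b.B (e (sh 2 i)) (e (sh 2 j)) = -b.B (e i) (e j) := by
    intro i j
    rw [← he.x2, ← he.x2, hQ.iX2.2.2, neg_one_mul]
  have h20 : b.B (e 2) (e 0) = -b.B (e 0) (e 2) := hx2 0 2
  have hG : ∀ i j, b.B (e i) (e j) = if sh 2 i = j then (if i < j then b.B (e 0) (e 2) else -b.B (e 0) (e 2))
      else 0 := by
    intro i j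
    by_cases hij : sh 2 i = j
    · subst hij
      rw [if_pos rfl]
      fin_cases i
      · rfl
      · exact hx1 0 2
      · exact h20
      · exact (hx1 2 0).trans h20
    · rw [if_neg hij]
      have hd : ∀ i j : Fin 4, sh 2 i ≠ j → xor (ps (true, false) i) (ps (true, false) j) = true ∨
          xor (ps (false, true) i) (ps (false, true) j) = false := by decide
      rcases hd i j hij with h3 | h3
      · have h4 := gram_z hQ.iZ1 he.z1 i j
        rw [h3] at h4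
        exact neg_zero_of h2 h4
      · have h4 := gram_z hQ.iZ2 he.z2 i j
        rw [h3] at h4
        exact neg_zero_of h2 h4.symm
  refine ⟨b.B (e 0) (e 2), fun h0 => ?_, ?_, hG⟩
  · apply e.ne_zero 0
    apply B_basis (b := b) e
    intro j
    rw [hG, h0, neg_zero, ite_self, ite_self]
  · rw [← hU.2, h20]

end basis

section mono

variable {K : Type u} [Field K] {V : Type v} [AddCommGroup V] [Module K V] {σ : K →+* K}

/-- `g` is semilinear, monomial with the shift `s` and the character `p` -/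
def Mo (e : Module.Basis (Fin 4) K V) (g : V →ₛₗ[σ] V) (s : Fin 4) (p : Bool × Bool) (κ : K) : Prop :=
  κ ≠ 0 ∧ ∀ j, g (e j) = (κ * sg K (ps p j)) • e (sh s j)

theorem repr_of {e : Module.Basis (Fin 4) K V} {g : V →ₛₗ[σ] V} {π : Fin 4 → Fin 4} (hπ : Function.Injective π)
    {μ : Fin 4 → K} (h : ∀ j, g (e j) = μ j • e (π j)) (v : V) (j : Fin 4) :
    e.repr (g v) (π j) = σ (e.repr v j) * μ j := by
  have h1 : g v = ∑ k, (σ (e.repr v k) * μ k) • e (π k) := by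
    conv_lhs => rw [← e.sum_repr v]
    rw [map_sum]
    refine Finset.sum_congr rfl fun k _ => ?_
    rw [map_smulₛₗ, h, smul_smul]
  rw [h1, map_sum, Finsupp.finsetSum_apply, Finset.sum_eq_single j]
  · rw [map_smul, Finsupp.smul_apply, e.repr_self, Finsupp.single_eq_same, smul_eq_mul, mul_one]
  · intro k _ hk
    rw [map_smul, Finsupp.smul_apply, e.repr_self, Finsupp.single_eq_of_ne (fun h3 => hk (hπ h3).symm), smul_zero]
  · intro h3
    exact absurd (Finset.mem_univ _) h3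

theorem exists_mono {Z1 X1 Z2 X2 : (R K V)ˣ} {e : Module.Basis (Fin 4) K V} (h2 : (2 : K) ≠ 0)
    (he : Bas Z1 X1 Z2 X2 e) {g : V →ₛₗ[σ] V} (hg : Function.Injective g) {c1 c2 d1 d2 : Bool}
    (hc1 : ∀ v, g ((Z1 : R K V) v) = sg K c1 • (Z1 : R K V) (g v))
    (hc2 : ∀ v, g ((Z2 : R K V) v) = sg K c2 • (Z2 : R K V) (g v))
    (hd1 : ∀ v, g ((X1 : R K V) v) = sg K d1 • (X1 : R K V) (g v))
    (hd2 : ∀ v, g ((X2 : R K V) v) = sg K d2 • (X2 : R K V) (g v)) :
    ∃ s κ, Mo e g s (d1, d2) κ := by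
  -- `g e 0`
  have hz : ∀ (Z : (R K V)ˣ) (p : Bool × Bool) (c : Bool), (∀ j, (Z : R K V) (e j) = sg K (ps p j) • e j) →
      (∀ v, g ((Z : R K V) v) = sg K c • (Z : R K V) (g v)) → ∀ j, e.repr (g (e 0)) j ≠ 0 → ps p j = c := by
    intro Z p c hZ hgZ j hj
    have h1 := hgZ (e 0)
    have h3 : (Z : R K V) (e 0) = e 0 := by
      rw [hZ]
      show sg K false • e 0 = e 0
      rw [sg]; exact one_smul _ _
    rw [h3] at h1
    have h4 := repr_of (e := e) (g := (Z : R K V)) (π := fun j => j) Function.injective_id hZ (g (e 0)) j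
    have h5 := congrArg (fun v => e.repr v j) h1
    simp only [map_smul, Finsupp.smul_apply, smul_eq_mul] at h5
    simp only [RingHom.id_apply] at h4
    rw [h4] at h5
    have h6 : sg K c * sg K (ps p j) = 1 := by
      have h7 : (sg K c * sg K (ps p j) - 1) * e.repr (g (e 0)) j = 0 := by linear_combination -h5
      exact sub_eq_zero.1 ((mul_eq_zero.1 h7).resolve_right hj)
    apply sg_inj h2
    have h7 := sg_sq (K := K) c
    have h8 := sg_ne (K := K) c
    have h9 : sg K c * (sg K (ps p j) - sg K c) = 0 := by linear_combination h6 - h7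
    exact sub_eq_zero.1 ((mul_eq_zero.1 h9).resolve_left h8)
  obtain ⟨s, hs⟩ : ∃ s : Fin 4, ∀ j, ps (true, false) j = c1 → ps (false, true) j = c2 → j = s := by
    have hd : ∀ c1 c2 : Bool, ∃ s : Fin 4, ∀ j, ps (true, false) j = c1 → ps (false, true) j = c2 → j = s := by decide
    exact hd c1 c2
  have hg0 : g (e 0) = e.repr (g (e 0)) s • e s := by
    conv_lhs => rw [← e.sum_repr (g (e 0))]
    rw [Finset.sum_eq_single s]
    · intro k _ hk
      have : e.repr (g (e 0)) k = 0 := by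
        by_contra h3
        exact hk (hs k (hz Z1 _ _ he.z1 hc1 k h3) (hz Z2 _ _ he.z2 hc2 k h3))
      rw [this, zero_smul]
    · intro h3
      exact absurd (Finset.mem_univ _) h3
  refine ⟨s, e.repr (g (e 0)) s, fun h0 => ?_, fun j => ?_⟩
  · rw [h0, zero_smul] at hg0
    exact e.ne_zero 0 (hg (hg0.trans (map_zero g).symm))
  generalize e.repr (g (e 0)) s = κ at hg0
  have h1 : g (e 1) = (κ * sg K d1) • e (sh 1 s) := by
    have h3 : e 1 = (X1 : R K V) (e 0) := (he.x1 0).symm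
    rw [h3, hd1, hg0, map_smul, he.x1, smul_smul, mul_comm]
  have h3 : g (e 2) = (κ * sg K d2) • e (sh 2 s) := by
    have h3 : e 2 = (X2 : R K V) (e 0) := (he.x2 0).symm
    rw [h3, hd2, hg0, map_smul, he.x2, smul_smul, mul_comm]
  have h4 : g (e 3) = (κ * sg K (xor d1 d2)) • e (sh 1 (sh 2 s)) := by
    have h5 : e 3 = (X1 : R K V) (e 2) := (he.x1 2).symm
    rw [h5, hd1, h3, map_smul, he.x1, smul_smul, sg_xor]
    congr 1
    ring
  have hc : ∀ s : Fin 4, sh s 0 = s ∧ sh s 1 = sh 1 s ∧ sh s 2 = sh 2 s ∧ sh s 3 = sh 1 (sh 2 s) := by decide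
  obtain ⟨k0, k1, k2, k3⟩ := hc s
  fin_cases j
  · show g (e 0) = (κ * sg K false) • e (sh s 0)
    rw [k0, hg0]
    have : κ * sg K false = κ := mul_one κ
    rw [this]
  · show g (e 1) = (κ * sg K d1) • e (sh s 1)
    rw [k1, h1]
  · show g (e 2) = (κ * sg K d2) • e (sh s 2)
    rw [k2, h3]
  · show g (e 3) = (κ * sg K (xor d1 d2)) • e (sh s 3)
    rw [k3, h4]

theorem Mo.repr {e : Module.Basis (Fin 4) K V} {g : V →ₛₗ[σ] V} {s : Fin 4} {p : Bool × Bool} {κ : K}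
    (h : Mo e g s p κ) (v : V) (j : Fin 4) : e.repr (g v) (sh s j) = σ (e.repr v j) * (κ * sg K (ps p j)) :=
  repr_of (sh_inj s) h.2 v j

variable {e : Module.Basis (Fin 4) K V}

theorem scal_of_mo {P : (R K V)ˣ} {κ : K} (hM : Mo (σ := RingHom.id K) e (P : R K V) 0 (false, false) κ) : Scal P := by
  refine ⟨κ, e.ext fun j => ?_⟩
  rw [hM.2 j]
  have h1 : ∀ j : Fin 4, sh 0 j = j ∧ ps (false, false) j = false := by decide
  rw [(h1 j).1, (h1 j).2]
  show (κ * 1) • e j = κ • e j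
  rw [mul_one]

theorem scal_of_eig (h2 : (2 : K) ≠ 0) {P : (R K V)ˣ} {p : Bool × Bool} {κ : K}
    (hM : Mo (σ := RingHom.id K) e (P : R K V) 0 p κ) {v : V} {c : K} (hv : (P : R K V) v = c • v) (k₀ : Fin 4)
    (hk : ∀ j, j ≠ k₀ → e.repr v j ≠ 0) : Scal P := by
  have h1 : ∀ j, j ≠ k₀ → κ * sg K (ps p j) = c := by
    intro j hj
    have h3 := hM.repr v j
    have h4 : ∀ j : Fin 4, sh 0 j = j := by decide
    rw [h4, hv, map_smul, Finsupp.smul_apply, smul_eq_mul, RingHom.id_apply] at h3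
    have h5 : (κ * sg K (ps p j) - c) * e.repr v j = 0 := by linear_combination -h3
    exact sub_eq_zero.1 ((mul_eq_zero.1 h5).resolve_right (hk j hj))
  have h3 : ∀ i j, i ≠ k₀ → j ≠ k₀ → ps p i = ps p j := by
    intro i j hi hj
    apply sg_inj h2
    exact mul_left_cancel₀ hM.1 ((h1 i hi).trans (h1 j hj).symm)
  have h4 : ∀ (p : Bool × Bool) (k₀ : Fin 4), (∀ i j, i ≠ k₀ → j ≠ k₀ → ps p i = ps p j) → p = (false, false) := by
    decide
  have h5 := h4 p k₀ h3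
  subst h5
  exact scal_of_mo hM

theorem shift_zero {P : (R K V)ˣ} {s : Fin 4} {p : Bool × Bool} {κ : K}
    (hM : Mo (σ := RingHom.id K) e (P : R K V) s p κ) {v : V} {c : K} (hv : (P : R K V) v = c • v) (k₀ : Fin 4)
    (hk₀ : e.repr v k₀ = 0) (hk : ∀ j, j ≠ k₀ → e.repr v j ≠ 0) : s = 0 := by
  by_contra hs
  have h1 : ∀ s k₀ : Fin 4, s ≠ 0 → sh s k₀ ≠ k₀ := by decide
  have h3 := hM.repr v k₀
  rw [hv, hk₀, map_zero, zero_mul, map_smul, Finsupp.smul_apply, smul_eq_mul] at h3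
  have h4 : c = 0 := (mul_eq_zero.1 h3).resolve_right (hk _ (h1 s k₀ hs))
  rw [h4, zero_smul] at hv
  have h5 : v = 0 := by
    rw [← Cfsg.Agent.H961.FC.units_inv_apply P v, hv, map_zero]
  apply hk _ (h1 s k₀ hs)
  rw [h5, map_zero, Finsupp.zero_apply]

theorem shift_zero' {P : (R K V)ˣ} {s : Fin 4} {p : Bool × Bool} {κ : K}
    (hM : Mo (σ := RingHom.id K) e (P : R K V) s p κ) {c : K} {j : Fin 4} (hv : (P : R K V) (e j) = c • e j) :
    s = 0 := by
  by_contra hs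
  have h1 : ∀ s k₀ : Fin 4, s ≠ 0 → sh s k₀ ≠ k₀ := by decide
  have h3 := hM.repr (e j) j
  rw [hv, map_smul, Finsupp.smul_apply, e.repr_self, Finsupp.single_eq_same,
    Finsupp.single_eq_of_ne (h1 s j hs), smul_zero, map_one, one_mul] at h3
  exact mul_ne_zero hM.1 (sg_ne _) h3.symm

end mono

section lf

variable {K : Type u} [Field K] {V : Type v} [AddCommGroup V] [Module K V] {b : Cl K V}
  {S A : Subgroup (Equiv.Perm (R K V))}

theorem mono_hat (h2 : (2 : K) ≠ 0) {a : ℕ} (h : C6Data S A 2 a) {Z1 X1 Z2 X2 : (R K V)ˣ} {m : K}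
    (hQ : Quad b A Z1 X1 Z2 X2 m) {e : Module.Basis (Fin 4) K V} (he : Bas Z1 X1 Z2 X2 e) {P : (R K V)ˣ}
    (hP : P ∈ Hat A) : ∃ s p κ, Mo (σ := RingHom.id K) e (P : R K V) s p κ := by
  have h1 : ∀ X ∈ Hat A, ∃ c : Bool, ∀ v, (P : R K V) ((X : R K V) v) = sg K c • (X : R K V) ((P : R K V) v) := by
    intro X hX
    rcases comm_or h hP hX with h3 | h3
    · refine ⟨false, fun v => ?_⟩
      show _ = (1 : K) • _
      rw [one_smul, ← Module.End.mul_apply, h3, Module.End.mul_apply]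
    · refine ⟨true, fun v => ?_⟩
      show _ = (-1 : K) • _
      rw [neg_smul, one_smul, ← Module.End.mul_apply, h3, LinearMap.neg_apply, Module.End.mul_apply]
  obtain ⟨c1, hc1⟩ := h1 _ hQ.hZ1
  obtain ⟨c2, hc2⟩ := h1 _ hQ.hZ2
  obtain ⟨d1, hd1⟩ := h1 _ hQ.hX1
  obtain ⟨d2, hd2⟩ := h1 _ hQ.hX2
  obtain ⟨s, κ, hM⟩ := exists_mono (σ := RingHom.id K) (g := (P : R K V)) h2 he (by
    intro v w hvw
    rw [← Cfsg.Agent.H961.FC.units_inv_apply P v, hvw, Cfsg.Agent.H961.FC.units_inv_apply]) hc1 hc2 hd1 hd2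
  exact ⟨s, _, κ, hM⟩

/-- a lift `h` of an element centralizing `A` and the conjugate `y = x h x⁻¹` -/
structure Lf (A : Subgroup (Equiv.Perm (R K V))) (x : (R K V)ˣ) (σ : K ≃+* K) (h y : V →ₛₗ[(σ : K →+* K)] V) :
    Prop where
  hinj : Function.Injective h
  yinj : Function.Injective y
  hc : ∀ P ∈ Hat A, (P : R K V) * P = 1 → ∃ c : Bool, ∀ v, h ((P : R K V) v) = sg K c • (P : R K V) (h v)
  yx : ∀ v, y ((x : R K V) v) = (x : R K V) (h v)
  yn : ∀ P ∈ Hat A, ∃ Q ∈ Hat A, ∀ v, (Q : R K V) (y v) = y ((P : R K V) v)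

theorem exists_Lf [Module.Finite K V] {a : ℕ} (h : C6Data S A 2 a) (hS : S ≤ RP K V) {f : Equiv.Perm (R K V)}
    (hf : f ∈ S) (hfc : ∀ c ∈ A, f * c = c * f) {x : (R K V)ˣ} (hx : cj K V x * f * (cj K V x)⁻¹ ∈ S) :
    ∃ (σ : K ≃+* K) (h y : V →ₛₗ[(σ : K →+* K)] V), Lf A x σ h y ∧
      ((∀ a, σ a = a) → (∃ κ : K, ∀ v, h v = κ • v) → f = 1) := by
  have := nontrivial_of h
  obtain ⟨σ, hσ⟩ := exists_sig (hS hf)
  obtain ⟨g, hadd, hsm, hg⟩ := hσ.semi (hS hf)
  let h' : V →ₛₗ[(σ : K →+* K)] V :=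
    { toFun := g
      map_add' := hadd
      map_smul' := hsm }
  have hh' : ∀ v, h' v = g v := fun _ => rfl
  have hxi := fun v => Cfsg.Agent.H961.FC.units_inv_apply x v
  let y' : V →ₛₗ[(σ : K →+* K)] V :=
    { toFun := fun v => (x : R K V) (g (((x⁻¹ : (R K V)ˣ) : R K V) v))
      map_add' := fun v w => by rw [map_add, hadd, map_add]
      map_smul' := fun c v => by
        show _ = σ c • _
        rw [map_smul, hsm, map_smul] }
  have hy' : ∀ v, y' v = (x : R K V) (g (((x⁻¹ : (R K V)ˣ) : R K V) v)) := fun _ => rfl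
  refine ⟨σ, h', y', ⟨g.injective, ?_, ?_, ?_, ?_⟩, ?_⟩
  · intro v w hvw
    rw [hy', hy'] at hvw
    have h1 := congrArg ((x⁻¹ : (R K V)ˣ) : R K V) hvw
    rw [hxi, hxi] at h1
    have h3 := congrArg (x : R K V) (g.injective h1)
    rwa [Cfsg.Agent.H961.FC.units_apply_inv, Cfsg.Agent.H961.FC.units_apply_inv] at h3
  · intro P hP hPP
    have h1 : cj K V P = cj K V (Cfsg.Agent.H706.FC.fu (hS hf) P) := by
      have h3 := Cfsg.Agent.H706.FC.f_cj (hS hf) P
      rw [hfc _ hP] at h3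
      exact mul_right_cancel h3
    obtain ⟨κ, hκ0, hκ⟩ := cj_eq h1.symm
    rw [Cfsg.Agent.H706.FC.fu_val] at hκ
    have h3 : κ * κ = 1 := by
      have h4 : f (P : R K V) * f (P : R K V) = 1 := by
        rw [← (hS hf).2, hPP, Cfsg.Agent.H706.FC.RP_map_one (hS hf)]
      rw [hκ, smul_mul_smul_comm, hPP] at h4
      have h8 : (κ * κ) • (1 : R K V) = (1 : K) • 1 := by rw [h4, one_smul]
      exact smul_one_inj h8
    obtain ⟨c, hc⟩ : ∃ c, sg K c = κ := by
      rcases mul_self_eq_one_iff.1 h3 with h4 | h4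
      · exact ⟨false, h4.symm⟩
      · exact ⟨true, h4.symm⟩
    refine ⟨c, fun v => ?_⟩
    rw [hh', hh', ← hg, hκ, hc, LinearMap.smul_apply]
  · intro v
    rw [hy', hxi, hh']
  · intro P hP
    have h1 := hS hx
    have h3 : cj K V (Cfsg.Agent.H706.FC.fu h1 P) ∈ A := by
      have h4 := h.2.2.2.2.2.2.2.2.2.1 _ hx _ hP
      rwa [Cfsg.Agent.H706.FC.f_cj h1 P, mul_inv_cancel_right] at h4
    refine ⟨Cfsg.Agent.H706.FC.fu h1 P, h3, fun v => ?_⟩
    have h4 : (Cfsg.Agent.H706.FC.fu h1 P : R K V) = (x : R K V) *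
        f (((x⁻¹ : (R K V)ˣ) : R K V) * (P : R K V) * (x : R K V)) * ((x⁻¹ : (R K V)ˣ) : R K V) := by
      rw [Cfsg.Agent.H706.FC.fu_val, Equiv.Perm.mul_apply, Equiv.Perm.mul_apply, ← map_inv, cj_apply, cj_apply, inv_inv]
    rw [h4, hy', hy', Module.End.mul_apply, Module.End.mul_apply, hxi, hg, Module.End.mul_apply, Module.End.mul_apply,
      Cfsg.Agent.H961.FC.units_apply_inv]
  · rintro hid ⟨κ, hκ⟩
    have hκ0 : κ ≠ 0 := by
      rintro rfl
      obtain ⟨v, hv⟩ := exists_ne (0 : V)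
      apply hv
      apply g.injective
      have h3 : g 0 = 0 := by
        have := hκ 0
        rwa [smul_zero] at this
      rw [h3]
      have := hκ v
      rwa [zero_smul] at this
    apply Equiv.ext
    intro X
    ext v
    have h3 := hg X v
    rw [← hh', ← hh', hκ, hκ, map_smul] at h3
    rw [Equiv.Perm.one_apply]
    have h4 := congrArg (fun w => κ⁻¹ • w) h3
    simpa [smul_smul, inv_mul_cancel₀ hκ0] using h4

end lf

section lf2

variable {K : Type u} [Field K] {V : Type v} [AddCommGroup V] [Module K V] {b : Cl K V}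
  {S A : Subgroup (Equiv.Perm (R K V))} {Z1 X1 Z2 X2 : (R K V)ˣ} {m : K} {e : Module.Basis (Fin 4) K V}
  {x : (R K V)ˣ} {σ : K ≃+* K} {h y : V →ₛₗ[(σ : K →+* K)] V}

theorem Lf.mono_h (L : Lf A x σ h y) (h2 : (2 : K) ≠ 0) (hQ : Quad b A Z1 X1 Z2 X2 m) (he : Bas Z1 X1 Z2 X2 e) :
    ∃ s p κ, Mo e h s p κ := by
  obtain ⟨c1, hc1⟩ := L.hc _ hQ.hZ1 hQ.iZ1.1
  obtain ⟨c2, hc2⟩ := L.hc _ hQ.hZ2 hQ.iZ2.1
  obtain ⟨d1, hd1⟩ := L.hc _ hQ.hX1 hQ.iX1.1
  obtain ⟨d2, hd2⟩ := L.hc _ hQ.hX2 hQ.iX2.1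
  obtain ⟨s, κ, hM⟩ := exists_mono h2 he L.hinj hc1 hc2 hd1 hd2
  exact ⟨s, _, κ, hM⟩

theorem Lf.nonscal (L : Lf A x σ h y) {P Q : (R K V)ˣ} (hQ : ∀ v, (Q : R K V) (y v) = y ((P : R K V) v))
    (hP : ¬ Scal P) : ¬ Scal Q := by
  rintro ⟨c, hc⟩
  apply hP
  refine ⟨σ.symm c, LinearMap.ext fun v => ?_⟩
  apply L.yinj
  rw [← hQ, hc, LinearMap.smul_apply, Module.End.one_apply, LinearMap.smul_apply, Module.End.one_apply, map_smulₛₗ]
  show c • y v = σ (σ.symm c) • y v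
  rw [RingEquiv.apply_symm_apply]

theorem Quad.nsZ1 [Nontrivial V] (h2 : (2 : K) ≠ 0) (hQ : Quad b A Z1 X1 Z2 X2 m) : ¬ Scal Z1 :=
  not_scal_of_anti h2 hQ.a1

theorem Quad.nsZ2 [Nontrivial V] (h2 : (2 : K) ≠ 0) (hQ : Quad b A Z1 X1 Z2 X2 m) : ¬ Scal Z2 :=
  not_scal_of_anti h2 hQ.a2

theorem Quad.nsZ [Nontrivial V] (h2 : (2 : K) ≠ 0) (hQ : Quad b A Z1 X1 Z2 X2 m) : ¬ Scal (Z1 * Z2) := by
  refine not_scal_of_anti (y := X1) h2 ?_
  rw [Units.val_mul, mul_assoc, ← hQ.c3, ← mul_assoc, hQ.a1, neg_mul, mul_assoc]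

theorem Lf.mono_y [Nontrivial V] (L : Lf A x σ h y) (h2 : (2 : K) ≠ 0) {a : ℕ} (hD : C6Data S A 2 a)
    (hQ : Quad b A Z1 X1 Z2 X2 m) (he : Bas Z1 X1 Z2 X2 e) {j₀ : Fin 4} {c : K} (hj : y (e j₀) = c • e j₀) :
    ∃ (π : Fin 4 → Fin 4) (p : Fin 4 → K), Function.Injective π ∧ (∀ j, p j ≠ 0) ∧ ∀ j, y (e j) = p j • e (π j) := by
  classical
  have hc0 : c ≠ 0 := by
    rintro rfl
    rw [zero_smul] at hj
    exact e.ne_zero j₀ (L.yinj (hj.trans (map_zero y).symm))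
  obtain ⟨Q1, hQ1, hy1⟩ := L.yn _ hQ.hZ1
  obtain ⟨Q2, hQ2, hy2⟩ := L.yn _ hQ.hZ2
  obtain ⟨s1, p1, κ1, M1⟩ := mono_hat h2 hD hQ he hQ1
  obtain ⟨s2, p2, κ2, M2⟩ := mono_hat h2 hD hQ he hQ2
  have hs : ∀ (P Q : (R K V)ˣ) (s : Fin 4) (q p : Bool × Bool) (κ : K),
      (∀ j, (P : R K V) (e j) = sg K (ps q j) • e j) → (∀ v, (Q : R K V) (y v) = y ((P : R K V) v)) →
      Mo (σ := RingHom.id K) e (Q : R K V) s p κ → s = 0 := by
    intro P Q s q p κ hP hy hM
    refine shift_zero' (j := j₀) (c := sg K (ps q j₀)) hM ?_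
    have h3 := hy (e j₀)
    rw [hP, map_smulₛₗ, hj, map_smul, sg_map, smul_comm] at h3
    exact smul_right_injective V hc0 h3
  have hs1 := hs _ _ _ _ _ _ he.z1 hy1 M1
  have hs2 := hs _ _ _ _ _ _ he.z2 hy2 M2
  subst hs1 hs2
  have n1 : ¬ Scal Q1 := L.nonscal hy1 (hQ.nsZ1 h2)
  have n2 : ¬ Scal Q2 := L.nonscal hy2 (hQ.nsZ2 h2)
  have n3 : ¬ Scal (Q1 * Q2) := L.nonscal (P := Z1 * Z2) (fun v => by
    rw [Units.val_mul, Module.End.mul_apply, hy2, hy1, Units.val_mul, Module.End.mul_apply]) (hQ.nsZ h2)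
  have e1 : p1 ≠ (false, false) := by
    rintro rfl
    exact n1 (scal_of_mo M1)
  have e2 : p2 ≠ (false, false) := by
    rintro rfl
    exact n2 (scal_of_mo M2)
  have h0 : ∀ j : Fin 4, sh 0 j = j := by decide
  have e3 : p1 ≠ p2 := by
    rintro rfl
    apply n3
    refine ⟨κ1 * κ2, e.ext fun j => ?_⟩
    rw [Units.val_mul, Module.End.mul_apply, M2.2 j, h0, map_smul, M1.2 j, h0, smul_smul]
    show _ = (κ1 * κ2) • e j
    congr 1
    linear_combination (κ1 * κ2) * sg_sq (K := K) (ps p1 j)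
  have key : ∀ j, ∃ (k : Fin 4) (q : K), q ≠ 0 ∧ y (e j) = q • e k := by
    intro j
    have hne : y (e j) ≠ 0 := fun h3 => e.ne_zero j (L.yinj (h3.trans (map_zero y).symm))
    obtain ⟨k, hk⟩ : ∃ k, e.repr (y (e j)) k ≠ 0 := by
      by_contra hcon
      push Not at hcon
      apply hne
      apply e.repr.injective
      rw [map_zero]
      ext k
      exact hcon k
    have hcoord : ∀ (P Q : (R K V)ˣ) (q p : Bool × Bool) (κ : K),
        (∀ j, (P : R K V) (e j) = sg K (ps q j) • e j) → (∀ v, (Q : R K V) (y v) = y ((P : R K V) v)) →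
        Mo (σ := RingHom.id K) e (Q : R K V) 0 p κ → ∀ l, e.repr (y (e j)) l ≠ 0 → κ * sg K (ps p l) =
          sg K (ps q j) := by
      intro P Q q p κ hP hy hM l hl
      have h3 := hM.repr (y (e j)) l
      rw [hy, hP, h0, map_smulₛₗ, sg_map, map_smul, Finsupp.smul_apply, smul_eq_mul, RingHom.id_apply] at h3
      have h5 : (κ * sg K (ps p l) - sg K (ps q j)) * e.repr (y (e j)) l = 0 := by linear_combination -h3
      exact sub_eq_zero.1 ((mul_eq_zero.1 h5).resolve_right hl)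
    have huniq : ∀ l, e.repr (y (e j)) l ≠ 0 → l = k := by
      intro l hl
      have a1 := (hcoord _ _ _ _ _ he.z1 hy1 M1 l hl).trans (hcoord _ _ _ _ _ he.z1 hy1 M1 k hk).symm
      have a2 := (hcoord _ _ _ _ _ he.z2 hy2 M2 l hl).trans (hcoord _ _ _ _ _ he.z2 hy2 M2 k hk).symm
      have b1 := sg_inj h2 (mul_left_cancel₀ M1.1 a1)
      have b2 := sg_inj h2 (mul_left_cancel₀ M2.1 a2)
      have hd : ∀ p q : Bool × Bool, p ≠ (false, false) → q ≠ (false, false) → p ≠ q → ∀ k l : Fin 4,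
          ps p k = ps p l → ps q k = ps q l → k = l := by decide
      exact hd p1 p2 e1 e2 e3 l k b1 b2
    refine ⟨k, e.repr (y (e j)) k, hk, ?_⟩
    conv_lhs => rw [← e.sum_repr (y (e j))]
    rw [Finset.sum_eq_single k]
    · intro l _ hl
      have : e.repr (y (e j)) l = 0 := by
        by_contra h3
        exact hl (huniq l h3)
      rw [this, zero_smul]
    · intro h3
      exact absurd (Finset.mem_univ _) h3
  choose π p hp hy using key
  refine ⟨π, p, ?_, hp, hy⟩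
  intro j j' hjj
  by_contra hne
  have h3 : y (σ.symm (p j') • e j) = y (σ.symm (p j) • e j') := by
    rw [map_smulₛₗ, map_smulₛₗ, hy, hy, hjj, smul_smul, smul_smul]
    show (σ (σ.symm (p j')) * p j) • _ = (σ (σ.symm (p j)) * p j') • _
    rw [RingEquiv.apply_symm_apply, RingEquiv.apply_symm_apply, mul_comm]
  have h4 := congrArg (fun v => e.repr v j) (L.yinj h3)
  simp only [map_smul, Finsupp.smul_apply, e.repr_self, Finsupp.single_eq_same, Finsupp.single_eq_of_ne hne,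
    smul_eq_mul, mul_one, mul_zero] at h4
  apply hp j'
  have h5 := congrArg σ h4
  rwa [RingEquiv.apply_symm_apply, map_zero] at h5

/-- the matrix of `x` -/
def Xm (ω w : Fin 4 → K) (j k : Fin 4) : K := (if j = k then 1 else 0) + ω k * w j

theorem Lf.rel (L : Lf A x σ h y) {p : Bool × Bool} {κ : K} (hM : Mo e h 0 p κ) {ω w : Fin 4 → K} {W : V}
    (hW : ∀ j, e.repr W j = w j) (hx : ∀ k, (x : R K V) (e k) = e k + ω k • W) {π : Fin 4 → Fin 4}
    {q : Fin 4 → K} (hπ : Function.Injective π) (hy : ∀ j, y (e j) = q j • e (π j)) (j k : Fin 4) :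
    σ (Xm ω w j k) * q j = κ * sg K (ps p k) * Xm ω w (π j) k := by
  classical
  have hX : ∀ j k, e.repr ((x : R K V) (e k)) j = Xm ω w j k := by
    intro j k
    rw [hx, map_add, Finsupp.add_apply, map_smul, Finsupp.smul_apply, hW, smul_eq_mul, e.repr_self, Xm,
      Finsupp.single_apply]
    simp only [eq_comm]
  have h0 : ∀ j : Fin 4, sh 0 j = j := by decide
  have h1 := repr_of hπ hy ((x : R K V) (e k)) j
  rw [hX, L.yx, hM.2, h0, map_smul, map_smul, Finsupp.smul_apply, hX, smul_eq_mul] at h1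
  exact h1.symm

end lf2

open Cfsg.Agent.H706.FC


section fin

variable {K : Type u} [Field K] {V : Type v} [AddCommGroup V] [Module K V] {b : Cl K V}
  {S A : Subgroup (Equiv.Perm (R K V))} {Z1 X1 Z2 X2 : (R K V)ˣ} {m : K} {e : Module.Basis (Fin 4) K V}
  {x : (R K V)ˣ} {σ : K ≃+* K} {h y : V →ₛₗ[(σ : K →+* K)] V}

theorem comm_aut [Finite K] (σ τ : K ≃+* K) (a : K) : τ (σ a) = σ (τ a) := by
  by_cases ha : a = 0
  · rw [ha]; simp
  obtain ⟨t, ht⟩ := exists_gn K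
  have hgen : ∀ x : K, x ≠ 0 → ∃ k : ℤ, x = (t : K) ^ k := by
    intro x hx
    obtain ⟨k, hk⟩ := ht (Units.mk0 x hx)
    refine ⟨k, ?_⟩
    have := congrArg (fun y : Kˣ => (y : K)) hk
    simpa using this.symm
  obtain ⟨k, rfl⟩ := hgen a ha
  obtain ⟨m, hm⟩ := hgen (σ t) (by simp)
  obtain ⟨n, hn⟩ := hgen (τ t) (by simp)
  have h1 : τ (σ (t : K)) = σ (τ (t : K)) := by
    rw [hm, hn, map_zpow₀, map_zpow₀, hm, hn, ← zpow_mul, ← zpow_mul, mul_comm m n]
  rw [map_zpow₀, map_zpow₀, map_zpow₀, map_zpow₀, h1]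

theorem skew_ind {τ : K ≃+* K} (h2 : (2 : K) ≠ 0) {κ : K} (hκ : τ κ = -κ) {a d : K} (ha : τ a = a) (hd : τ d = d)
    (h : a + d * κ = 0) : a = 0 := by
  have h1 := congrArg τ h
  rw [map_add, map_mul, ha, hd, hκ, map_zero] at h1
  have h3 : 2 * a = 0 := by linear_combination h + h1
  exact (mul_eq_zero.1 h3).resolve_left h2

theorem Lf.no_three [Nontrivial V] (L : Lf A x σ h y) (h2 : (2 : K) ≠ 0) {a : ℕ} (hD : C6Data S A 2 a)
    (hQ : Quad b A Z1 X1 Z2 X2 m) (he : Bas Z1 X1 Z2 X2 e) {j₀ : Fin 4} {c : K} (hc : c ≠ 0) {v : V}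
    (hj : y (e j₀) = c • v) (k₀ : Fin 4) (hk₀ : e.repr v k₀ = 0) (hk : ∀ j, j ≠ k₀ → e.repr v j ≠ 0) : False := by
  obtain ⟨Q1, hQ1, hy1⟩ := L.yn _ hQ.hZ1
  obtain ⟨s1, p1, κ1, M1⟩ := mono_hat h2 hD hQ he hQ1
  have h3 := hy1 (e j₀)
  rw [he.z1, map_smulₛₗ, hj, map_smul, sg_map, smul_comm] at h3
  have h4 : (Q1 : R K V) v = sg K (ps (true, false) j₀) • v := smul_right_injective V hc h3
  have hs := shift_zero M1 h4 k₀ hk₀ hk
  subst hs
  exact L.nonscal hy1 (hQ.nsZ1 h2) (scal_of_eig h2 M1 h4 k₀ hk)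

theorem Lf.full [Nontrivial V] (L : Lf A x σ h y) (h2 : (2 : K) ≠ 0) {a : ℕ} (hD : C6Data S A 2 a)
    (hQ : Quad b A Z1 X1 Z2 X2 m) (he : Bas Z1 X1 Z2 X2 e) {j₀ : Fin 4} {c : K} (hc : c ≠ 0) {v : V}
    (hj : y (e j₀) = c • v) (hk : ∀ j, e.repr v j ≠ 0) {t u : K} (ht4 : t ^ 4 ≠ 1) (hu4 : u ^ 4 ≠ 1)
    (h01 : e.repr v 1 = t * e.repr v 0) (h3 : e.repr v 3 = 1) (h0 : e.repr v 0 * e.repr v 0 = -(u * u)) : False := by
  obtain ⟨Q1, hQ1, hy1⟩ := L.yn _ hQ.hZ1
  obtain ⟨Q2, hQ2, hy2⟩ := L.yn _ hQ.hZ2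
  obtain ⟨s1, p1, κ1, M1⟩ := mono_hat h2 hD hQ he hQ1
  obtain ⟨s2, p2, κ2, M2⟩ := mono_hat h2 hD hQ he hQ2
  obtain ⟨s3, p3, κ3, M3⟩ := mono_hat h2 hD hQ he (mul_mem hQ1 hQ2)
  have hev : ∀ (P Q : (R K V)ˣ) (q : Bool × Bool), (∀ j, (P : R K V) (e j) = sg K (ps q j) • e j) →
      (∀ v, (Q : R K V) (y v) = y ((P : R K V) v)) → (Q : R K V) v = sg K (ps q j₀) • v := by
    intro P Q q hP hy
    have h3 := hy (e j₀)
    rw [hP, map_smulₛₗ, hj, map_smul, sg_map, smul_comm] at h3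
    exact smul_right_injective V hc h3
  have ev1 := hev _ _ _ he.z1 hy1
  have ev2 := hev _ _ _ he.z2 hy2
  have hsh : ∀ (Q : (R K V)ˣ) (s : Fin 4) (p : Bool × Bool) (κ : K) (c : Bool),
      Mo (σ := RingHom.id K) e (Q : R K V) s p κ → (Q : R K V) v = sg K c • v → ¬ Scal Q → s = 2 := by
    intro Q s p κ c hM hv hns
    have hr := fun j => hM.repr v j
    simp only [hv, map_smul, Finsupp.smul_apply, smul_eq_mul, RingHom.id_apply] at hr
    have hcases : s = 0 ∨ s = 1 ∨ s = 2 ∨ s = 3 := by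
      have hd : ∀ s : Fin 4, s = 0 ∨ s = 1 ∨ s = 2 ∨ s = 3 := by decide
      exact hd s
    rcases hcases with rfl | rfl | rfl | rfl
    · exact absurd (scal_of_eig h2 hM hv 0 fun j _ => hk j) hns
    · exfalso
      have r0 : sg K c * e.repr v 1 = e.repr v 0 * (κ * 1) := hr 0
      have r1 : sg K c * e.repr v 0 = e.repr v 1 * (κ * sg K p.1) := hr 1
      have hκ := hM.1
      have hv0 := hk 0
      have c1 := sg_sq (K := K) c
      have c2 := sg_sq (K := K) p.1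
      rw [h01] at r0 r1
      -- `c t = κ`, `c = t κ p`
      have q0 : sg K c * t = κ := by
        have : (sg K c * t - κ) * e.repr v 0 = 0 := by linear_combination r0
        exact sub_eq_zero.1 ((mul_eq_zero.1 this).resolve_right hv0)
      have q1 : sg K c = t * κ * sg K p.1 := by
        have : (sg K c - t * κ * sg K p.1) * e.repr v 0 = 0 := by linear_combination r1
        exact sub_eq_zero.1 ((mul_eq_zero.1 this).resolve_right hv0)
      rw [← q0] at q1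
      have q2 : t * t * sg K p.1 = 1 := by
        have : sg K c * (t * t * sg K p.1 - 1) = 0 := by linear_combination -q1
        exact sub_eq_zero.1 ((mul_eq_zero.1 this).resolve_left (sg_ne c))
      apply ht4
      linear_combination (t * t * sg K p.1 + 1) * q2 - t ^ 4 * c2
    · rfl
    · exfalso
      have r0 : sg K c * e.repr v 3 = e.repr v 0 * (κ * 1) := hr 0
      have r1 : sg K c * e.repr v 0 = e.repr v 3 * (κ * sg K (xor p.1 p.2)) := hr 3
      have hκ := hM.1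
      have c2 := sg_sq (K := K) (xor p.1 p.2)
      rw [h3] at r0 r1
      have q2 : e.repr v 0 * e.repr v 0 = sg K (xor p.1 p.2) := by
        have : κ * (e.repr v 0 * e.repr v 0 - sg K (xor p.1 p.2)) = 0 := by
          linear_combination r1 - e.repr v 0 * r0
        exact sub_eq_zero.1 ((mul_eq_zero.1 this).resolve_left hκ)
      rw [h0] at q2
      apply hu4
      linear_combination (-(u * u) + sg K (xor p.1 p.2)) * q2 + c2
  have e1 := hsh _ _ _ _ _ M1 ev1 (L.nonscal hy1 (hQ.nsZ1 h2))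
  have e2 := hsh _ _ _ _ _ M2 ev2 (L.nonscal hy2 (hQ.nsZ2 h2))
  subst e1 e2
  have n3 : ¬ Scal (Q1 * Q2) := L.nonscal (P := Z1 * Z2) (fun v => by
    rw [Units.val_mul, Module.End.mul_apply, hy2, hy1, Units.val_mul, Module.End.mul_apply]) (hQ.nsZ h2)
  have ev3 : ((Q1 * Q2 : (R K V)ˣ) : R K V) v = sg K (xor (ps (true, false) j₀) (ps (false, true) j₀)) • v := by
    rw [Units.val_mul, Module.End.mul_apply, ev2, map_smul, ev1, smul_smul, sg_xor, mul_comm]
  have e3 := hsh _ _ _ _ _ M3 ev3 n3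
  subst e3
  have h4 := M3.2 0
  have h5 := M2.2 0
  have h6 := M1.2 2
  rw [Units.val_mul, Module.End.mul_apply, h5] at h4
  have h7 : sh 2 0 = 2 := rfl
  have h8 : sh 2 2 = 0 := rfl
  rw [h7, map_smul, h6, h8, smul_smul] at h4
  have h9 := congrArg (fun v => e.repr v 2) h4
  simp only [map_smul, Finsupp.smul_apply, e.repr_self, smul_eq_mul, Finsupp.single_eq_same] at h9
  rw [Finsupp.single_eq_of_ne (by decide), mul_zero, mul_one] at h9
  exact mul_ne_zero M3.1 (sg_ne _) h9.symm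

theorem Lf.end_eq {p : Bool × Bool} {μ : K} (hM : Mo e h 0 p μ) (hp : p = (false, false)) (hσ : ∀ a, σ a = a) (v : V) :
    h v = μ • v := by
  subst hp
  have h1 : ∀ j : Fin 4, sh 0 j = j ∧ ps (false, false) j = false := by decide
  apply e.repr.injective
  ext j
  have h3 := hM.repr v j
  rw [(h1 j).1, (h1 j).2] at h3
  rw [h3, map_smul, Finsupp.smul_apply, smul_eq_mul]
  show σ (e.repr v j) * (μ * 1) = μ * e.repr v j
  rw [hσ, mul_one, mul_comm]

end fin

section cases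

variable {K : Type u} [Field K] [Finite K] {V : Type v} [AddCommGroup V] [Module K V] [Module.Finite K V] {b : Cl K V}
  {S A : Subgroup (Equiv.Perm (R K V))} {Z1 X1 Z2 X2 : (R K V)ˣ} {e : Module.Basis (Fin 4) K V}

theorem case_plus (hU : b.IsU) (h2 : (2 : K) ≠ 0) (hD : C6Data S A 2 2) (hSb : S ≤ RB b) (hsol : Group.IsSolvable S)
    (hQ : Quad b A Z1 X1 Z2 X2 1) (he : Bas Z1 X1 Z2 X2 e) : FiveB b S := by
  have := nontrivial_of hD
  obtain ⟨β, hβ0, hτβ, hG⟩ := gram_one h2 hQ he hU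
  obtain ⟨κ, hκ0, hκ, -, hσκ⟩ := exists_kappa b.invol hU.1 h2
  obtain ⟨α, hα⟩ := Cfsg.Agent.TitsThree.PQClass.norm_surj b.τ b.invol hU.1 (show b.τ (-2) = -2 by
    rw [map_neg, map_ofNat])
  have hα0 : α ≠ 0 := by
    rintro rfl
    rw [zero_mul] at hα
    exact h2 (neg_eq_zero.1 hα.symm)
  have hτα0 : b.τ α ≠ 0 := by simpa using hα0
  have hτ2 : b.τ 2 = 2 := map_ofNat b.τ 2
  have s1 : (1 : K) + κ ≠ 0 := by
    intro h0
    exact one_ne_zero (skew_ind h2 hκ (map_one b.τ) (map_one b.τ) (by rw [one_mul]; exact h0))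
  have s2 : (1 : K) - 2 * κ ≠ 0 := by
    intro h0
    exact one_ne_zero (skew_ind (d := -2) h2 hκ (map_one b.τ) (by rw [map_neg, hτ2]) (by linear_combination h0))
  obtain ⟨W, hWd⟩ : ∃ W, W = e 1 + e 2 + α • e 3 := ⟨_, rfl⟩
  let w : Fin 4 → K := ![0, 1, 1, α]
  let ω : Fin 4 → K := ![0, κ, κ, κ * b.τ α]
  have hW : ∀ j, e.repr W j = w j := by
    intro j
    rw [hWd]
    simp only [map_add, map_smul, Finsupp.add_apply, Finsupp.smul_apply, e.repr_self, smul_eq_mul]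
    fin_cases j <;> simp [w]
  have hBW : ∀ k, b.B (e k) W = β * b.τ (w k) := by
    intro k
    rw [hWd, b.add_right, b.add_right, b.smul_right, hG, hG, hG]
    fin_cases k <;> simp [w]
    ring
  have hWW : b.B W W = 0 := by
    rw [show b.B W W = b.B (e 1 + e 2 + α • e 3) W by rw [← hWd]]
    rw [b.add_left, b.add_left, b.smul_left, hBW, hBW, hBW]
    have w1 : w 1 = 1 := rfl
    have w2 : w 2 = 1 := rfl
    have w3 : w 3 = α := rfl
    rw [w1, w2, w3, map_one]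
    linear_combination β * hα
  have hW0 : W ≠ 0 := by
    rintro h0
    have h3 := hW 1
    rw [h0, map_zero, Finsupp.zero_apply] at h3
    exact zero_ne_one h3
  have hN : Nil b (tw b (κ / β) W) W := nil_tw hW0 hWW (s := 1) (one_mul 1) (fun v w => by rw [one_mul]; exact hU.2 v w)
    (map_one _) (by rw [map_div₀, hκ, hτβ]; ring) (div_ne_zero hκ0 hβ0)
  have hx : ∀ k, (uN _ hN.sq : R K V) (e k) = e k + ω k • W := by
    intro k
    rw [uN_val, LinearMap.add_apply, Module.End.one_apply, tw_apply, hBW]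
    congr 2
    have : κ / β * (β * b.τ (w k)) = κ * b.τ (w k) := by field_simp
    rw [this]
    fin_cases k <;> simp [w, ω]
  refine mtB hSb hD hsol (uN _ hN.sq) (det_uN hN) (isom_uN hN) fun f hf hfc hxf => ?_
  generalize uN _ hN.sq = x at hx hxf
  obtain ⟨σ, h, y, L, hfin⟩ := exists_Lf hD (fun f hf => (hSb hf).1) hf hfc hxf
  obtain ⟨s, p, μ, M⟩ := L.mono_h h2 hQ he
  have hX : ∀ j k, e.repr ((x : R K V) (e k)) j = Xm ω w j k := by
    intro j k
    rw [hx, map_add, Finsupp.add_apply, map_smul, Finsupp.smul_apply, hW, smul_eq_mul, e.repr_self, Xm,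
      Finsupp.single_apply]
    simp only [eq_comm]
  have hx0 : (x : R K V) (e 0) = e 0 := by
    rw [hx]
    show e 0 + (0 : K) • W = e 0
    rw [zero_smul, add_zero]
  have X11 : Xm ω w 1 1 = 1 + κ := by simp [Xm, ω, w]
  have X12 : Xm ω w 1 2 = κ := by simp [Xm, ω, w]
  have X13 : Xm ω w 1 3 = κ * b.τ α := by simp [Xm, ω, w]
  have X21 : Xm ω w 2 1 = κ := by simp [Xm, ω, w]
  have X22 : Xm ω w 2 2 = 1 + κ := by simp [Xm, ω, w]
  have X23 : Xm ω w 2 3 = κ * b.τ α := by simp [Xm, ω, w]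
  have X31 : Xm ω w 3 1 = κ * α := by simp [Xm, ω, w]
  have X32 : Xm ω w 3 2 = κ * α := by simp [Xm, ω, w]
  have X33 : Xm ω w 3 3 = 1 - 2 * κ := by
    simp [Xm, ω, w]
    linear_combination κ * hα
  have X0 : ∀ k, Xm ω w 0 k = if 0 = k then 1 else 0 := by
    intro k
    simp [Xm, w]
  have hy0 : y (e 0) = (μ * sg K (ps p 0)) • (x : R K V) (e (sh s 0)) := by
    conv_lhs => rw [← hx0]
    rw [L.yx, M.2, map_smul]
  have hμ0 : μ * sg K (ps p 0) ≠ 0 := mul_ne_zero M.1 (sg_ne _)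
  have hs : s = 0 := by
    by_contra hs
    refine L.no_three h2 hD hQ he hμ0 hy0 0 ?_ ?_
    · have hd : ∀ s : Fin 4, s ≠ 0 → ¬ (0 = sh s 0) := by decide
      rw [hX, X0, if_neg (hd s hs)]
    · intro j hj
      rw [hX]
      have hd : ∀ s j : Fin 4, s ≠ 0 → j ≠ 0 → ((s = 1 ∨ s = 2 ∨ s = 3) ∧ (j = 1 ∨ j = 2 ∨ j = 3)) := by decide
      obtain ⟨h1 | h1 | h1, h3 | h3 | h3⟩ := hd s j hs hj <;> rw [h1, h3]
      · show Xm ω w 1 1 ≠ 0
        rw [X11]; exact s1
      · show Xm ω w 2 1 ≠ 0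
        rw [X21]; exact hκ0
      · show Xm ω w 3 1 ≠ 0
        rw [X31]; exact mul_ne_zero hκ0 hα0
      · show Xm ω w 1 2 ≠ 0
        rw [X12]; exact hκ0
      · show Xm ω w 2 2 ≠ 0
        rw [X22]; exact s1
      · show Xm ω w 3 2 ≠ 0
        rw [X32]; exact mul_ne_zero hκ0 hα0
      · show Xm ω w 1 3 ≠ 0
        rw [X13]; exact mul_ne_zero hκ0 hτα0
      · show Xm ω w 2 3 ≠ 0
        rw [X23]; exact mul_ne_zero hκ0 hτα0
      · show Xm ω w 3 3 ≠ 0
        rw [X33]; exact s2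
  subst hs
  have hy0' : y (e 0) = (μ * sg K (ps p 0)) • e 0 := by
    rw [hy0]
    show _ • (x : R K V) (e 0) = _
    rw [hx0]
  obtain ⟨π, q, hπ, hq, hyq⟩ := L.mono_y h2 hD hQ he hy0'
  have R := L.rel M hW hx hπ hyq
  have hM0 := M.1
  -- `π 0 = 0`
  have π0 : π 0 = 0 := by
    by_contra h0
    have r := R 0 0
    have : Xm ω w (π 0) 0 = 0 := by
      rw [Xm, if_neg h0]
      show 0 + 0 * _ = (0 : K)
      rw [zero_mul, add_zero]
    rw [this, mul_zero, X0, if_pos rfl, map_one, one_mul] at r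
    exact hq 0 r
  have hd3 : ∀ s : Fin 4, s = 0 ∨ s = 1 ∨ s = 2 ∨ s = 3 := by decide
  have hsgτ : ∀ c, b.τ (sg K c) = sg K c := fun c => sg_map (b.τ : K →+* K) c
  have r31 := R 3 1
  have r32 := R 3 2
  rw [X31] at r31
  rw [X32] at r32
  have π3 : π 3 = 3 := by
    rcases hd3 (π 3) with h3 | h3 | h3 | h3
    · exact absurd (hπ (h3.trans π0.symm)) (by decide)
    · exfalso
      rw [h3, X11] at r31
      rw [h3, X12] at r32
      refine sg_ne (ps p 1) (skew_ind (d := sg K (ps p 1) - sg K (ps p 2)) h2 hκ (hsgτ _) (by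
        rw [map_sub, hsgτ, hsgτ]) ?_)
      apply mul_left_cancel₀ hM0
      linear_combination r32 - r31
    · exfalso
      rw [h3, X21] at r31
      rw [h3, X22] at r32
      refine sg_ne (ps p 2) (skew_ind (d := sg K (ps p 2) - sg K (ps p 1)) h2 hκ (hsgτ _) (by
        rw [map_sub, hsgτ, hsgτ]) ?_)
      apply mul_left_cancel₀ hM0
      linear_combination r31 - r32
    · exact h3
  rw [π3, X31] at r31
  rw [π3, X32] at r32
  have e12 : ps p 1 = ps p 2 := by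
    apply sg_inj h2
    have h3 : (μ * (κ * α)) * (sg K (ps p 1) - sg K (ps p 2)) = 0 := by linear_combination r32 - r31
    exact sub_eq_zero.1 ((mul_eq_zero.1 h3).resolve_left (mul_ne_zero hM0 (mul_ne_zero hκ0 hα0)))
  have r11 := R 1 1
  have r12 := R 1 2
  have r13 := R 1 3
  rw [X11, map_add, map_one, e12] at r11
  rw [X12] at r12
  rw [X13] at r13
  rcases hd3 (π 1) with h3 | h3 | h3 | h3
  · exact absurd (hπ (h3.trans π0.symm)) (by decide)
  · rw [h3, X11] at r11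
    rw [h3, X12] at r12
    rw [h3, X13] at r13
    have q1 : q 1 = μ * sg K (ps p 2) := by linear_combination r11 - r12
    rw [q1] at r12 r13
    have hmu : μ * sg K (ps p 2) ≠ 0 := mul_ne_zero hM0 (sg_ne _)
    have k1 : σ κ = κ := by
      have : (μ * sg K (ps p 2)) * (σ κ - κ) = 0 := by linear_combination r12
      exact sub_eq_zero.1 ((mul_eq_zero.1 this).resolve_left hmu)
    have hid := hσκ σ k1
    rw [hid] at r13
    have e23 : ps p 2 = ps p 3 := by
      apply sg_inj h2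
      have h3 : (μ * (κ * b.τ α)) * (sg K (ps p 2) - sg K (ps p 3)) = 0 := by linear_combination r13
      exact sub_eq_zero.1 ((mul_eq_zero.1 h3).resolve_left (mul_ne_zero hM0 (mul_ne_zero hκ0 hτα0)))
    have hp : p = (false, false) := by
      have hd : ∀ p : Bool × Bool, ps p 1 = ps p 2 → ps p 2 = ps p 3 → p = (false, false) := by decide
      exact hd p e12 e23
    exact hfin hid ⟨μ, Lf.end_eq M hp hid⟩
  · exfalso
    rw [h3, X21] at r11
    rw [h3, X22] at r12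
    have q1 : q 1 = -(μ * sg K (ps p 2)) := by linear_combination r11 - r12
    rw [q1] at r12
    have hmu : μ * sg K (ps p 2) ≠ 0 := mul_ne_zero hM0 (sg_ne _)
    have k1 : σ κ = -(1 + κ) := by
      have : (μ * sg K (ps p 2)) * (σ κ + (1 + κ)) = 0 := by linear_combination -r12
      have := (mul_eq_zero.1 this).resolve_left hmu
      linear_combination this
    have k2 := comm_aut σ b.τ κ
    rw [hκ, map_neg, k1, map_neg, map_add, map_one, hκ] at k2
    apply h2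
    linear_combination -k2
  · exact absurd (hπ (h3.trans π3.symm)) (by decide)

theorem case_neg (hU : b.IsU) (h2 : (2 : K) ≠ 0) (hD : C6Data S A 2 2) (hSb : S ≤ RB b) (hsol : Group.IsSolvable S)
    (hQ : Quad b A Z1 X1 Z2 X2 (-1)) (he : Bas Z1 X1 Z2 X2 e) {ι : K} (hι : ι * ι = -1) (hτι : b.τ ι = ι) :
    FiveB b S := by
  have := nontrivial_of hD
  obtain ⟨γ, hγ0, hτγ, hG⟩ := gram_neg h2 hQ he hU
  obtain ⟨t, ht0, ht4, hσt⟩ := exists_t (τ := b.τ) hU.1 h2 hι hτι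
  have hτt0 : b.τ t ≠ 0 := by simpa using ht0
  have hι0 : ι ≠ 0 := by
    rintro rfl
    rw [mul_zero] at hι
    exact neg_ne_zero.2 one_ne_zero hι.symm
  have s1 : (1 : K) + ι ≠ 0 := by
    intro h0
    apply h2
    linear_combination (1 - ι) * h0 + hι
  have s2 : (1 : K) - ι ≠ 0 := by
    intro h0
    apply h2
    linear_combination (1 + ι) * h0 + hι
  have ht4' : (b.τ t) ^ 4 ≠ 1 := by
    intro h0
    apply ht4
    have h3 := congrArg b.τ h0
    rwa [map_pow, b.invol, map_one] at h3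
  obtain ⟨W, hWd⟩ : ∃ W, W = e 0 + t • e 1 + e 2 := ⟨_, rfl⟩
  let w : Fin 4 → K := ![1, t, 1, 0]
  let ω : Fin 4 → K := ![ι, 0, -ι, -(ι * b.τ t)]
  have hW : ∀ j, e.repr W j = w j := by
    intro j
    rw [hWd]
    simp only [map_add, map_smul, Finsupp.add_apply, Finsupp.smul_apply, e.repr_self, smul_eq_mul]
    fin_cases j <;> simp [w]
  have hBW : ∀ k, b.B (e k) W = ![γ, 0, -γ, -(γ * b.τ t)] k := by
    intro k
    rw [hWd, b.add_right, b.add_right, b.smul_right, hG, hG, hG]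
    fin_cases k <;> simp [sh]
    ring
  have hWW : b.B W W = 0 := by
    rw [show b.B W W = b.B (e 0 + t • e 1 + e 2) W by rw [← hWd]]
    rw [b.add_left, b.add_left, b.smul_left, hBW, hBW, hBW]
    show γ + t * 0 + -γ = 0
    ring
  have hW0 : W ≠ 0 := by
    rintro h0
    have h3 := hW 0
    rw [h0, show e.repr (0 : V) = 0 from map_zero _, Finsupp.zero_apply] at h3
    exact zero_ne_one h3
  have hN : Nil b (tw b (ι / γ) W) W := nil_tw hW0 hWW (s := 1) (one_mul 1) (fun v w => by rw [one_mul]; exact hU.2 v w)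
    (map_one _) (by rw [map_div₀, hτι, hτγ]; ring) (div_ne_zero hι0 hγ0)
  have hx : ∀ k, (uN _ hN.sq : R K V) (e k) = e k + ω k • W := by
    intro k
    rw [uN_val, LinearMap.add_apply, Module.End.one_apply, tw_apply, hBW]
    congr 2
    fin_cases k <;> simp [ω] <;> field_simp
  refine mtB hSb hD hsol (uN _ hN.sq) (det_uN hN) (isom_uN hN) fun f hf hfc hxf => ?_
  generalize uN _ hN.sq = x at hx hxf
  obtain ⟨σ, h, y, L, hfin⟩ := exists_Lf hD (fun f hf => (hSb hf).1) hf hfc hxf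
  obtain ⟨s, p, μ, M⟩ := L.mono_h h2 hQ he
  have hX : ∀ j k, e.repr ((x : R K V) (e k)) j = Xm ω w j k := by
    intro j k
    rw [hx, map_add, Finsupp.add_apply, map_smul, Finsupp.smul_apply, hW, smul_eq_mul, e.repr_self, Xm,
      Finsupp.single_apply]
    simp only [eq_comm]
  have hx1 : (x : R K V) (e 1) = e 1 := by
    rw [hx]
    show e 1 + (0 : K) • W = e 1
    rw [zero_smul, add_zero]
  have X00 : Xm ω w 0 0 = 1 + ι := by simp [Xm, ω, w]
  have X10 : Xm ω w 1 0 = ι * t := by simp [Xm, ω, w]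
  have X20 : Xm ω w 2 0 = ι := by simp [Xm, ω, w]
  have X30 : Xm ω w 3 0 = 0 := by simp [Xm, ω, w]
  have X02 : Xm ω w 0 2 = -ι := by simp [Xm, ω, w]
  have X12 : Xm ω w 1 2 = -(ι * t) := by simp [Xm, ω, w]
  have X22 : Xm ω w 2 2 = 1 - ι := by simp [Xm, ω, w]; ring
  have X32 : Xm ω w 3 2 = 0 := by simp [Xm, ω, w]
  have X03 : Xm ω w 0 3 = -(ι * b.τ t) := by simp [Xm, ω, w]
  have X13 : Xm ω w 1 3 = -(ι * b.τ t) * t := by simp [Xm, ω, w]
  have X23 : Xm ω w 2 3 = -(ι * b.τ t) := by simp [Xm, ω, w]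
  have X33 : Xm ω w 3 3 = 1 := by simp [Xm, ω, w]
  have X_1 : ∀ j, Xm ω w j 1 = if j = 1 then 1 else 0 := by
    intro j
    simp [Xm, ω]
  have hy1 : y (e 1) = (μ * sg K (ps p 1)) • (x : R K V) (e (sh s 1)) := by
    conv_lhs => rw [← hx1]
    rw [L.yx, M.2, map_smul]
  have hμ1 : μ * sg K (ps p 1) ≠ 0 := mul_ne_zero M.1 (sg_ne _)
  have hd3 : ∀ s : Fin 4, s = 0 ∨ s = 1 ∨ s = 2 ∨ s = 3 := by decide
  have hs : s = 0 := by
    rcases hd3 s with h0 | h0 | h0 | h0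
    · exact h0
    · exfalso
      subst h0
      refine L.no_three h2 hD hQ he hμ1 hy1 3 ?_ ?_
      · rw [hX]; exact X30
      · intro j hj
        rw [hX]
        show Xm ω w j 0 ≠ 0
        rcases hd3 j with h1 | h1 | h1 | h1 <;> rw [h1]
        · rw [X00]; exact s1
        · rw [X10]; exact mul_ne_zero hι0 ht0
        · rw [X20]; exact hι0
        · exact absurd h1 hj
    · exfalso
      subst h0
      refine L.full h2 hD hQ he hμ1 hy1 (t := t) (u := b.τ t) ?_ ht4 ht4' ?_ ?_ ?_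
      · intro j
        rw [hX]
        show Xm ω w j 3 ≠ 0
        have h5 : -(ι * b.τ t) ≠ 0 := neg_ne_zero.2 (mul_ne_zero hι0 hτt0)
        rcases hd3 j with h1 | h1 | h1 | h1 <;> rw [h1]
        · rw [X03]; exact h5
        · rw [X13]; exact mul_ne_zero h5 ht0
        · rw [X23]; exact h5
        · rw [X33]; exact one_ne_zero
      · rw [hX, hX]
        show Xm ω w 1 3 = t * Xm ω w 0 3
        rw [X13, X03]; ring
      · rw [hX]; exact X33
      · rw [hX]
        show Xm ω w 0 3 * Xm ω w 0 3 = _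
        rw [X03]
        linear_combination (b.τ t * b.τ t) * hι
    · exfalso
      subst h0
      refine L.no_three h2 hD hQ he hμ1 hy1 3 ?_ ?_
      · rw [hX]; exact X32
      · intro j hj
        rw [hX]
        show Xm ω w j 2 ≠ 0
        rcases hd3 j with h1 | h1 | h1 | h1 <;> rw [h1]
        · rw [X02]; exact neg_ne_zero.2 hι0
        · rw [X12]; exact neg_ne_zero.2 (mul_ne_zero hι0 ht0)
        · rw [X22]; exact s2
        · exact absurd h1 hj
  subst hs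
  have hy1' : y (e 1) = (μ * sg K (ps p 1)) • e 1 := by
    rw [hy1]
    show _ • (x : R K V) (e 1) = _
    rw [hx1]
  obtain ⟨π, q, hπ, hq, hyq⟩ := L.mono_y h2 hD hQ he hy1'
  have R := L.rel M hW hx hπ hyq
  have hM0 := M.1
  have r11 := R 1 1
  rw [X_1, X_1, if_pos rfl, map_one, one_mul] at r11
  have π1 : π 1 = 1 := by
    by_contra h0
    rw [if_neg h0, mul_zero] at r11
    exact hq 1 r11
  rw [if_pos π1, mul_one] at r11
  have r10 := R 1 0
  have r12 := R 1 2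
  rw [π1, X10, r11] at r10
  rw [π1, X12, r11, map_neg] at r12
  have e02 : ps p 0 = ps p 2 := by
    apply sg_inj h2
    have h3 : (μ * (ι * t)) * (sg K (ps p 0) - sg K (ps p 2)) = 0 := by linear_combination -r10 - r12
    exact sub_eq_zero.1 ((mul_eq_zero.1 h3).resolve_left (mul_ne_zero hM0 (mul_ne_zero hι0 ht0)))
  have r00 := R 0 0
  have r02 := R 0 2
  rw [X00, map_add, map_one] at r00
  rw [X02, map_neg, ← e02] at r02
  rw [map_mul] at r10
  have hmu : μ * sg K (ps p 0) ≠ 0 := mul_ne_zero hM0 (sg_ne _)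
  rcases hd3 (π 0) with h3 | h3 | h3 | h3
  · rw [h3, X00] at r00
    rw [h3, X02] at r02
    have q0 : q 0 = μ * sg K (ps p 0) := by linear_combination r00 + r02
    rw [q0] at r02
    have k1 : σ ι = ι := by
      have : (μ * sg K (ps p 0)) * (σ ι - ι) = 0 := by linear_combination -r02
      exact sub_eq_zero.1 ((mul_eq_zero.1 this).resolve_left hmu)
    rw [k1] at r10
    have k2 : σ t * sg K (ps p 1) = sg K (ps p 0) * t := by
      have : (μ * ι) * (σ t * sg K (ps p 1) - sg K (ps p 0) * t) = 0 := by linear_combination r10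
      exact sub_eq_zero.1 ((mul_eq_zero.1 this).resolve_left (mul_ne_zero hM0 hι0))
    have k3 : sg K (ps p 0) = 1 := rfl
    rw [k3, one_mul] at k2
    have hst : σ t = t ∨ σ t = -t := by
      cases hc : ps p 1
      · left
        rw [hc] at k2
        have k4 : sg K false = 1 := rfl
        rw [k4] at k2
        linear_combination k2
      · right
        rw [hc] at k2
        have k4 : sg K true = -1 := rfl
        rw [k4] at k2
        linear_combination -k2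
    have hid := hσt σ hst
    rw [hid] at k2
    have e01 : ps p 1 = ps p 0 := by
      apply sg_inj h2
      have : t * (sg K (ps p 1) - sg K (ps p 0)) = 0 := by rw [k3]; linear_combination k2
      exact sub_eq_zero.1 ((mul_eq_zero.1 this).resolve_left ht0)
    have hp : p = (false, false) := by
      have hd : ∀ p : Bool × Bool, ps p 1 = ps p 0 → ps p 0 = ps p 2 → p = (false, false) := by decide
      exact hd p e01 e02
    exact hfin hid ⟨μ, Lf.end_eq M hp hid⟩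
  · exact absurd (hπ (h3.trans π1.symm)) (by decide)
  · exfalso
    rw [h3, X20] at r00
    rw [h3, X22] at r02
    have q0 : q 0 = μ * sg K (ps p 0) := by linear_combination r00 + r02
    rw [q0] at r02
    have k1 : σ ι = ι - 1 := by
      have : (μ * sg K (ps p 0)) * (σ ι - (ι - 1)) = 0 := by linear_combination -r02
      exact sub_eq_zero.1 ((mul_eq_zero.1 this).resolve_left hmu)
    have k2 : σ ι * σ ι = -1 := by rw [← map_mul, hι, map_neg, map_one]
    rw [k1] at k2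
    have k3 : 2 * ι = 1 := by linear_combination hι - k2
    have k4 := congrArg σ k3
    rw [map_mul, map_one, k1, map_ofNat] at k4
    apply h2
    linear_combination k3 - k4
  · exfalso
    rw [h3, X30, mul_zero] at r00
    rcases mul_eq_zero.1 r00 with h4 | h4
    · apply s1
      exact (map_eq_zero_iff σ σ.injective).1 (by rw [map_add, map_one]; exact h4)
    · exact hq 0 h4

end cases

theorem two_ne {K : Type u} [Field K] {V : Type v} [AddCommGroup V] [Module K V]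
    {S A : Subgroup (Equiv.Perm (R K V))} {a : ℕ} (h : C6Data S A 2 a) : (2 : K) ≠ 0 := by
  have := nontrivial_of h
  obtain ⟨x, hx, hns⟩ := exists_nonscal h
  obtain ⟨y, hy, c, hc1, hc2, -⟩ := exists_conj h hx hns
  intro h2
  apply hc1
  have h3 : (c - 1) * (c - 1) = 0 := by linear_combination hc2 - (c - 1) * h2
  exact sub_eq_zero.1 (mul_self_eq_zero.1 h3)

/-- **unitary, `n = 4`** -/
theorem stmtBC6_U4 : Cfsg.Agent.H786.FC.StmtBC6On.{u, v} true fun n => n = 4 := by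
  intro K _ _ V _ _ _ b hk hb hn S hSb hsol A r a h
  have hU := hk.1 rfl
  have hn' : Module.finrank K V = 4 := hn
  have hr : r = 2 := by
    have h1 := h.2.2.1
    rw [hn'] at h1
    have h2 : (2 : ℕ) ∣ r ^ a := by rw [← h1]; norm_num
    exact ((Nat.prime_dvd_prime_iff_eq Nat.prime_two h.1).1 (Nat.prime_two.dvd_of_dvd_pow h2)).symm
  subst hr
  have ha : a = 2 := by
    have h1 := h.2.2.1
    rw [hn'] at h1
    exact (Nat.pow_right_injective (le_refl 2) (show 2 ^ 2 = 2 ^ a by rw [← h1])).symm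
  subst ha
  have h2 := two_ne h
  obtain ⟨Z1, X1, Z2, X2, hQ | ⟨hQ, i, hi, hτi⟩⟩ := exists_quad hU h2 h hSb
  · obtain ⟨e, he⟩ := exists_basis h2 hn' hQ
    exact case_plus hU h2 h hSb hsol hQ he
  · obtain ⟨e, he⟩ := exists_basis h2 hn' hQ
    exact case_neg hU h2 h hSb hsol hQ he hi hτi

end Cfsg.Agent.H412.FC.UFour
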